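import Groth.Agent.CycKey.Order

/-!
# The pairing vanishes when local parameters exist
-/

set_option autoImplicit false
set_option linter.unusedSectionVars false

namespace Groth.Agent.CycKey

open IsLocalRing

universe u

variable {A : Type u} [CommRing A] [IsNoetherianRing A] {B : Type u} [CommRing B] [Algebra A B]
  [Module.Finite A B] [IsNoetherianRing B]

/-- The image at a point. -/
noncomputable abbrev loc (p : PrimeSpectrum B) : B →+* Localization.AtPrime p.asIdeal := algebraMap B _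

theorem isUnit_loc {p : PrimeSpectrum B} {x : B} : IsUnit (loc p x) ↔ x ∉ p.asIdeal :=
  IsLocalization.AtPrime.isUnit_to_map_iff (Localization.AtPrime p.asIdeal) p.asIdeal x

theorem notMem_of_nzd {z : B} (hz : z ∈ nonZeroDivisors B) {r : Ideal B} (hr : r ∈ associatedPrimes B B) :
    z ∉ r := fun h => by
  have h' : z ∈ ⋃ p ∈ associatedPrimes B B, (p : Set B) := Set.mem_biUnion hr h
  rw [biUnion_associatedPrimes_eq_compl_nonZeroDivisors] at h'
  exact h' hz

/-- Avoidance of finitely many primes and one ideal. -/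
theorem exists_mem_avoid (J K : Ideal B) (hK : ¬ J ≤ K) (S : Set (PrimeSpectrum B)) (hS : S.Finite)
    (h : ∀ r ∈ S, ¬ J ≤ r.asIdeal) (hass : ∀ r ∈ associatedPrimes B B, ¬ J ≤ r) :
    ∃ s ∈ J, s ∈ nonZeroDivisors B ∧ s ∉ K ∧ ∀ r ∈ S, s ∉ r.asIdeal := by
  classical
  let F : Finset (Option (Ideal B)) := insert none
    (((hS.image PrimeSpectrum.asIdeal).union (associatedPrimes.finite B B)).toFinset.image some)
  let f : Option (Ideal B) → Ideal B := fun o => o.getD K
  have hmem : ∀ r : Ideal B, some r ∈ F ↔ (∃ q ∈ S, q.asIdeal = r) ∨ r ∈ associatedPrimes B B := fun r => by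
    simp [F]
  have hns : ¬ ((J : Set B) ⊆ ⋃ i ∈ (F : Set (Option (Ideal B))), f i) := by
    rw [Ideal.subset_union_prime none none (fun i hi hi' _ => ?_)]
    · rintro ⟨i, hi, hle⟩
      rcases i with _ | r
      · exact hK hle
      · rcases (hmem r).mp hi with ⟨q, hq, rfl⟩ | hr
        · exact h q hq hle
        · exact hass r hr hle
    · obtain ⟨r, rfl⟩ := Option.ne_none_iff_exists'.mp hi'
      rcases (hmem r).mp hi with ⟨q, -, rfl⟩ | hr
      · exact q.2
      · exact hr.isPrime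
  obtain ⟨s, hsJ, hs⟩ := Set.not_subset.mp hns
  have hs' : ∀ i ∈ F, s ∉ f i := fun i hi hmem => hs (Set.mem_biUnion hi hmem)
  refine ⟨s, hsJ, ?_, hs' none (Finset.mem_insert_self _ _),
    fun r hr => hs' (some r.asIdeal) ((hmem _).mpr (Or.inl ⟨r, hr, rfl⟩))⟩
  by_contra hnz
  have h' : s ∈ ⋃ p ∈ associatedPrimes B B, (p : Set B) := by
    rw [biUnion_associatedPrimes_eq_compl_nonZeroDivisors]; exact hnz
  obtain ⟨r, hr, hsr⟩ := Set.mem_iUnion₂.mp h'
  exact hs' (some r) ((hmem _).mpr (Or.inr hr)) hsr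

/-- A parameter with prescribed behaviour. -/
theorem exists_param (hd : Dim2 B) {z : B} (hz : z ∈ nonZeroDivisors B) {p : PrimeSpectrum B} (hp : p ∈ T z)
    {π : Localization.AtPrime p.asIdeal} (hπ : π ∈ nonZeroDivisors (Localization.AtPrime p.asIdeal))
    (hπu : ¬ IsUnit π) (S : Set (PrimeSpectrum B)) (hS : S.Finite)
    (hgood : ∀ r ∈ S, ¬ r.asIdeal.IsMaximal) (hpS : p ∉ S) :
    ∃ P ∈ nonZeroDivisors B, Associated (loc p P) π ∧ p ∈ T P ∧ ∀ r ∈ S, r ∉ T P := by
  haveI := isNoetherian_atPrime p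
  haveI := krullDimLE_atPrime hd hp.1
  let J : Ideal B := (Ideal.span {π}).comap (loc p)
  let K : Ideal B := (Ideal.span {π} * maximalIdeal _).comap (loc p)
  have hK : ¬ J ≤ K := fun hle => by
    obtain ⟨⟨x, s⟩, hx⟩ := IsLocalization.surj p.asIdeal.primeCompl π
    have hxJ : x ∈ J := by
      show loc p x ∈ Ideal.span {π}
      rw [show loc p x = π * loc p s from hx.symm]
      exact Ideal.mul_mem_right _ _ (Ideal.mem_span_singleton_self π)
    have hxK : loc p x ∈ Ideal.span {π} * maximalIdeal (Localization.AtPrime p.asIdeal) := hle hxJ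
    obtain ⟨c, hc, he⟩ := Ideal.mem_span_singleton_mul.mp hxK
    rw [show loc p x = π * loc p s from hx.symm] at he
    have := (mul_cancel_left_mem_nonZeroDivisors hπ).mp he
    exact (IsLocalRing.mem_maximalIdeal _).mp hc (this ▸ IsLocalization.map_units _ s)
  have key : ∀ r : Ideal B, r.IsPrime → J ≤ r → p.asIdeal ≤ r := fun r hr hle => by
    have hrad : maximalIdeal (Localization.AtPrime p.asIdeal) ≤ (Ideal.span {π}).radical := by
      rw [Ideal.radical_eq_sInf]
      refine le_sInf fun P ⟨hP, hPp⟩ => ?_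
      haveI := hPp
      rcases Ring.krullDimLE_one_iff.mp inferInstance P hPp with hmin | hmax
      · exact absurd hπ (notMem_nonZeroDivisors_of_mem_mem_minimalPrimes
          (hP (Ideal.mem_span_singleton_self π)) hmin)
      · exact (IsLocalRing.eq_maximalIdeal hmax).ge
    intro b hb
    obtain ⟨n, hn⟩ : loc p b ∈ (Ideal.span {π}).radical :=
      hrad ((IsLocalization.AtPrime.to_map_mem_maximal_iff (Localization.AtPrime p.asIdeal) p.asIdeal b).mpr hb)
    exact hr.mem_of_pow_mem n (hle (show loc p (b ^ n) ∈ Ideal.span {π} by rw [map_pow]; exact hn))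
  obtain ⟨P, hPJ, hPn, hPK, hPS⟩ := exists_mem_avoid J K hK S hS
    (fun r hr hle => hpS (eq_of_le_of_height hd (one_le_height hz hp.2) (hgood r hr)
      (key r.asIdeal r.2 hle) ▸ hr))
    (fun r hr hle => notMem_of_nzd hz hr (key r hr.isPrime hle hp.2))
  obtain ⟨c, hc⟩ := Ideal.mem_span_singleton.mp (show loc p P ∈ Ideal.span {π} from hPJ)
  have hcu : IsUnit c := by
    by_contra h
    exact hPK (show loc p P ∈ _ by
      rw [hc]; exact Ideal.mul_mem_mul (Ideal.mem_span_singleton_self π) ((IsLocalRing.mem_maximalIdeal c).mpr h))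
  refine ⟨P, hPn, (associated_mul_isUnit_right_iff hcu).mp (hc ▸ Associated.refl (loc p P)) , ⟨hp.1, ?_⟩,
    fun r hr h => hPS r hr h.2⟩
  by_contra h
  exact hπu (isUnit_of_mul_isUnit_left (hc ▸ isUnit_loc.mpr h))

/-- Clearing: an element agreeing locally with a product of powers. -/
theorem exists_clear {b Q : B} (hb : b ∈ nonZeroDivisors B) (hQ : Q ∈ nonZeroDivisors B)
    (S : Set (PrimeSpectrum B)) (hS : S.Finite) (h : ∀ r ∈ S, Associated (loc r b) (loc r Q)) :
    ∃ s c, s ∈ nonZeroDivisors B ∧ c ∈ nonZeroDivisors B ∧ s * b = Q * c ∧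
      ∀ r ∈ S, s ∉ r.asIdeal ∧ c ∉ r.asIdeal := by
  rcases subsingleton_or_nontrivial B with hB | hB
  · exact ⟨1, 1, one_mem _, one_mem _, Subsingleton.elim _ _,
      fun r _ => absurd (Subsingleton.elim r.asIdeal ⊤) r.2.ne_top⟩
  let J : Ideal B := (Ideal.span {Q}).colon {b}
  have hJ : ∀ s, s ∈ J ↔ ∃ c, s * b = Q * c := fun s => by
    simp [J, Submodule.mem_colon_singleton, Ideal.mem_span_singleton, dvd_def]
  obtain ⟨s, hsJ, hsn, -, hsS⟩ := exists_mem_avoid J ⊥
    (fun hle => nonZeroDivisors.ne_zero hQ ((Ideal.mem_bot).mp (hle ((hJ Q).mpr ⟨b, rfl⟩)))) S hS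
    (fun r hr hle => by
      obtain ⟨v, hv⟩ := (h r hr).symm
      obtain ⟨⟨c, d⟩, hcd⟩ := IsLocalization.surj r.asIdeal.primeCompl (v : Localization.AtPrime r.asIdeal)
      have e : loc r ((d : B) * b) = loc r (Q * c) := by
        rw [map_mul, map_mul, ← hv, show loc r c = (v : Localization.AtPrime r.asIdeal) * loc r d from hcd.symm]
        ring
      obtain ⟨w, hw⟩ := (IsLocalization.eq_iff_exists r.asIdeal.primeCompl _).mp e
      exact Ideal.IsPrime.mul_notMem inferInstance w.2 d.2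
        (hle ((hJ _).mpr ⟨(w : B) * c, by rw [mul_assoc, hw]; ring⟩)))
    (fun r hr hle => notMem_of_nzd hQ hr (hle ((hJ Q).mpr ⟨b, rfl⟩)))
  obtain ⟨c, hc⟩ := (hJ s).mp hsJ
  refine ⟨s, c, hsn, ?_, hc, fun r hr => ⟨hsS r hr, fun hcr => ?_⟩⟩
  · exact (mul_mem_nonZeroDivisors.mp (hc ▸ mul_mem hsn hb)).2
  · have hu : IsUnit (loc r c) := by
      obtain ⟨v, hv⟩ := h r hr
      have e : loc r s * loc r b = loc r b * (v : Localization.AtPrime r.asIdeal) * loc r c := by
        rw [hv, ← map_mul, ← map_mul, hc]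
      have e' : loc r s = (v : Localization.AtPrime r.asIdeal) * loc r c :=
        (mul_cancel_left_mem_nonZeroDivisors (mem_nzd_atPrime hb r)).mp (by linear_combination e)
      exact isUnit_of_mul_isUnit_right (e' ▸ isUnit_loc.mpr (hsS r hr))
    exact isUnit_loc.mp hu hcr

theorem L_one_right (hd : Dim2 B) {x : B} (hx : x ∈ nonZeroDivisors B) : L A x 1 = 0 := by
  have h := L_mul_right (A := A) hd (one_mem (nonZeroDivisors B)) (one_mem (nonZeroDivisors B)) hx
  rw [one_mul] at h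
  linarith

theorem L_pow_right (hd : Dim2 B) {x y : B} (hx : x ∈ nonZeroDivisors B) (hy : y ∈ nonZeroDivisors B)
    (n : ℕ) : L A x (y ^ n) = n * L A x y := by
  induction n with
  | zero => simpa using L_one_right hd hx
  | succ n ih => rw [pow_succ, L_mul_right hd (pow_mem hy n) hy hx, ih]; push_cast; ring

theorem L_prod_right {ι : Type u} (hd : Dim2 B) {x : B} (hx : x ∈ nonZeroDivisors B) (s : Finset ι) (y : ι → B)
    (hy : ∀ i ∈ s, y i ∈ nonZeroDivisors B) : L A x (∏ i ∈ s, y i) = ∑ i ∈ s, L A x (y i) := by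
  classical
  induction s using Finset.induction with
  | empty => simpa using L_one_right hd hx
  | insert a s ha ih =>
    rw [Finset.prod_insert ha, Finset.sum_insert ha,
      L_mul_right hd (hy a (Finset.mem_insert_self _ _))
        (prod_mem fun i hi => hy i (Finset.mem_insert_of_mem hi)) hx,
      ih fun i hi => hy i (Finset.mem_insert_of_mem hi)]

/-- Pairing with an element through a second parameter. -/
theorem L_param (hd : Dim2 B) {p : PrimeSpectrum B} {P P' b : B} (hP : P ∈ nonZeroDivisors B)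
    (hP' : P' ∈ nonZeroDivisors B) (hb : b ∈ nonZeroDivisors B) (f : ℕ)
    (hPP' : ∀ r ∈ T P, r ∈ T P' → r = p) (hPb : ∀ r ∈ T P, r ∈ T b → r = p)
    (hloc : Associated (loc p b) (loc p P' ^ f)) : L A P b = f * L A P P' := by
  obtain ⟨s, c, hs, hc, he, hS⟩ := exists_clear hb (pow_mem hP' f) (T P) (finite_T hd hP) fun r hr => by
    by_cases h : r = p
    · subst h; rw [map_pow]; exact hloc
    · have h1 : IsUnit (loc r b) := isUnit_loc.mpr fun hm => h (hPb r hr ⟨hr.1, hm⟩)
      have h2 : IsUnit (loc r P') := isUnit_loc.mpr fun hm => h (hPP' r hr ⟨hr.1, hm⟩)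
      rw [map_pow]
      exact (associated_one_iff_isUnit.mpr h1).trans (associated_one_iff_isUnit.mpr (h2.pow f)).symm
  have e := congrArg (L A P) he
  rw [L_mul_right hd hs hb hP, L_mul_right hd (pow_mem hP' f) hc hP, L_pow_right hd hP hP',
    L_disjoint hd hP hs fun r hr h => (hS r hr).1 h.2,
    L_disjoint hd hP hc fun r hr h => (hS r hr).2 h.2] at e
  linarith

/-- Two parameters at the same point pair to zero. -/
theorem L_params (hd : Dim2 B) {p : PrimeSpectrum B} {P₁ P₂ P₃ : B} (h₁ : P₁ ∈ nonZeroDivisors B)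
    (h₂ : P₂ ∈ nonZeroDivisors B) (h₃ : P₃ ∈ nonZeroDivisors B)
    (a₁₂ : Associated (loc p P₁) (loc p P₂)) (a₂₃ : Associated (loc p P₂) (loc p P₃))
    (d₁₂ : ∀ r ∈ T P₁, r ∈ T P₂ → r = p) (d₁₃ : ∀ r ∈ T P₁, r ∈ T P₃ → r = p)
    (d₂₃ : ∀ r ∈ T P₂, r ∈ T P₃ → r = p) : L A P₁ P₂ = 0 := by
  have e₁ := L_param (A := A) hd h₁ h₃ h₂ 1 d₁₃ d₁₂ (by rw [pow_one]; exact a₂₃)
  have e₂ := L_param (A := A) hd h₂ h₁ h₃ 1 (fun r a b => d₁₂ r b a) d₂₃
    (by rw [pow_one]; exact (a₁₂.trans a₂₃).symm)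
  have e₃ := L_param (A := A) hd h₃ h₂ h₁ 1 (fun r a b => d₂₃ r b a) (fun r a b => d₁₃ r b a)
    (by rw [pow_one]; exact a₁₂)
  have s₁ := L_skew (A := A) hd h₁ h₂
  have s₂ := L_skew (A := A) hd h₁ h₃
  have s₃ := L_skew (A := A) hd h₂ h₃
  push_cast at e₁ e₂ e₃
  linarith

/-- A parameter pairs to zero with every element of the same shape. -/
theorem L_param_eq_zero (hd : Dim2 B) {z : B} (hz : z ∈ nonZeroDivisors B) {p : PrimeSpectrum B} (hp : p ∈ T z)
    {π : Localization.AtPrime p.asIdeal} (hπ : π ∈ nonZeroDivisors (Localization.AtPrime p.asIdeal))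
    (hπu : ¬ IsUnit π) {P b : B} (hP : P ∈ nonZeroDivisors B) (hb : b ∈ nonZeroDivisors B)
    (hPa : Associated (loc p P) π) (f : ℕ) (hba : Associated (loc p b) (π ^ f))
    (hPb : ∀ r ∈ T P, r ∈ T b → r = p) : L A P b = 0 := by
  obtain ⟨P', hP', hP'a, -, hP'S⟩ := exists_param hd hz hp hπ hπu (T P \ {p})
    ((finite_T hd hP).subset Set.sdiff_subset) (fun r hr => hr.1.1) (fun h => h.2 rfl)
  obtain ⟨P'', hP'', hP''a, -, hP''S⟩ := exists_param hd hz hp hπ hπu ((T P ∪ T P') \ {p})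
    (((finite_T hd hP).union (finite_T hd hP')).subset Set.sdiff_subset)
    (fun r hr => hr.1.elim (·.1) (·.1)) (fun h => h.2 rfl)
  have d : ∀ r ∈ T P, r ∈ T P' → r = p := fun r hr h => by
    by_contra hne; exact hP'S r ⟨hr, hne⟩ h
  rw [L_param hd hP hP' hb f d hPb (hba.trans hP'a.symm.pow_pow),
    L_params hd hP hP' hP'' (hPa.trans hP'a.symm) (hP'a.trans hP''a.symm) d
      (fun r hr h => by by_contra hne; exact hP''S r ⟨Or.inl hr, hne⟩ h)
      (fun r hr h => by by_contra hne; exact hP''S r ⟨Or.inr hr, hne⟩ h), mul_zero]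

/-- The pairing vanishes if parameters exist along all curves. -/
theorem L_eq_zero (hd : Dim2 B) {z a b : B} (hz : z ∈ nonZeroDivisors B) (ha : a ∈ nonZeroDivisors B)
    (hb : b ∈ nonZeroDivisors B) (haz : T a ⊆ T z) (hbz : T b ⊆ T z)
    (π : ∀ p ∈ T z, Localization.AtPrime p.asIdeal)
    (hπ : ∀ p hp, π p hp ∈ nonZeroDivisors (Localization.AtPrime p.asIdeal))
    (hπu : ∀ p hp, ¬ IsUnit (π p hp))
    (hloc : ∀ p hp, ∃ e f : ℕ, Associated (loc p a) (π p hp ^ e) ∧ Associated (loc p b) (π p hp ^ f)) :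
    L A a b = 0 := by
  classical
  have fz := finite_T hd hz
  choose e f hea hfb using hloc
  choose P hP hPa _ hPS using fun (p : PrimeSpectrum B) (hp : p ∈ T z) =>
    exists_param hd hz hp (hπ p hp) (hπu p hp) (T z \ {p}) (fz.subset Set.sdiff_subset)
      (fun r hr => hr.1.1) (fun h => h.2 rfl)
  let ι := {p // p ∈ fz.toFinset}
  let Q : ι → B := fun i => P i.1 (fz.mem_toFinset.mp i.2) ^ e i.1 (fz.mem_toFinset.mp i.2)
  have hQ : ∀ i ∈ (Finset.univ : Finset ι), Q i ∈ nonZeroDivisors B := fun i _ => pow_mem (hP _ _) _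
  obtain ⟨s, c, hs, hc, he, hS⟩ := exists_clear ha (prod_mem hQ) (T b) (finite_T hd hb) fun r hr => by
    have hrz := hbz hr
    let i₀ : ι := ⟨r, fz.mem_toFinset.mpr hrz⟩
    have hothers : IsUnit (loc r (∏ i ∈ Finset.univ.erase i₀, Q i)) := isUnit_loc.mpr fun hm => by
      obtain ⟨i, hi, hiQ⟩ := r.2.prod_mem_iff.mp hm
      exact hPS i.1 _ r ⟨hrz, fun h => Finset.ne_of_mem_erase hi (Subtype.ext h.symm)⟩
        ⟨hr.1, r.2.mem_of_pow_mem _ hiQ⟩
    rw [← Finset.mul_prod_erase _ _ (Finset.mem_univ i₀), map_mul, associated_mul_isUnit_right_iff hothers,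
      map_pow]
    exact (hea r hrz).trans (hPa r hrz).symm.pow_pow
  have hzero : ∀ i : ι, L A b (Q i) = 0 := fun i => by
    have hp := fz.mem_toFinset.mp i.2
    rw [L_pow_right hd hb (hP _ hp), L_skew hd (hP _ hp) hb,
      L_param_eq_zero hd hz hp (hπ _ hp) (hπu _ hp) (hP _ hp) hb (hPa _ hp) (f _ hp) (hfb _ hp)
        (fun r hr h => by by_contra hne; exact hPS _ hp r ⟨hbz h, hne⟩ hr), neg_zero, mul_zero]
  have e' := congrArg (L A b) he
  rw [L_mul_right hd hs ha hb, L_mul_right hd (prod_mem hQ) hc hb, L_prod_right hd hb _ _ hQ,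
    Finset.sum_eq_zero fun i _ => hzero i, L_disjoint hd hb hs fun r hr h => (hS r hr).1 h.2,
    L_disjoint hd hb hc fun r hr h => (hS r hr).2 h.2] at e'
  have := L_skew (A := A) hd hb ha
  linarith

end Groth.Agent.CycKey
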