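import Groth.Agent.CycHerb.IndexFormula
import Mathlib.RingTheory.Ideal.GoingUp
import Mathlib.RingTheory.IntegralClosure.IsIntegralClosure.Basic

/-!
# Lengths over the base and the index of a multiplication
-/

set_option autoImplicit false
set_option linter.unusedSectionVars false

namespace Groth.Agent.CycKey

open Groth.Agent.LenLib Groth.Agent.CycHerb Function LinearMap

universe u

variable {A : Type u} [CommRing A] [IsNoetherianRing A] {B : Type u} [CommRing B] [Algebra A B]
  [Module.Finite A B]

/-- Modules supported at maximal ideals have finite length over the base. -/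
theorem length_ne_top (M : Type u) [AddCommGroup M] [Module B M] [Module A M] [IsScalarTower A B M]
    [Module.Finite B M] (h : ∀ p ∈ Module.support B M, p.asIdeal.IsMaximal) :
    Module.length A M ≠ ⊤ := by
  haveI : Module.Finite A M := Module.Finite.trans B M
  haveI : Algebra.IsIntegral A B := Algebra.IsIntegral.of_finite A B
  refine length_ne_top_of_support_maximal fun q hq => ?_
  rw [Module.support_eq_zeroLocus, PrimeSpectrum.mem_zeroLocus, SetLike.coe_subset_coe] at hq
  have hle : (Module.annihilator B M).comap (algebraMap A B) ≤ q.asIdeal := fun a ha =>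
    hq (Module.mem_annihilator.mpr fun m => by
      rw [← algebraMap_smul B a m]
      exact Module.mem_annihilator.mp ha m)
  obtain ⟨Q, hQ, hQp, hQc⟩ :=
    Ideal.exists_ideal_over_prime_of_isIntegral q.asIdeal (Module.annihilator B M) hle
  have hm := h ⟨Q, hQp⟩ (by
    rw [Module.support_eq_zeroLocus, PrimeSpectrum.mem_zeroLocus, SetLike.coe_subset_coe]
    exact hQ)
  haveI : Q.IsMaximal := hm
  rw [← hQc]
  exact Ideal.isMaximal_comap_of_isIntegral_of_isMaximal Q

variable (A) in
/-- Multiplication, as a map of modules over the base. -/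
def mulA (M : Type u) [AddCommGroup M] [Module B M] [Module A M] [IsScalarTower A B M] (x : B) :
    M →ₗ[A] M :=
  (lsmul B M x).restrictScalars A

variable (A) in
/-- The length of the quotient by an element, over the base. -/
noncomputable def ordA {D : Type u} [CommRing D] [Algebra A D] (d : D) : ℤ :=
  lenZ A (D ⧸ Ideal.span {d})

theorem mulA_apply {M : Type u} [AddCommGroup M] [Module B M] [Module A M] [IsScalarTower A B M]
    (x : B) (m : M) : mulA A M x m = x • m := rfl

/-- The cokernel of multiplication on a quotient ring. -/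
noncomputable def cokerEquiv (I : Ideal B) (x : B) :
    ((B ⧸ I) ⧸ range (mulA A (B ⧸ I) x)) ≃ₗ[A] (B ⧸ I) ⧸ Ideal.span {Ideal.Quotient.mk I x} :=
  (Submodule.quotEquivOfEq _ ((Ideal.span {Ideal.Quotient.mk I x}).restrictScalars A) (by
    ext m
    rw [Submodule.restrictScalars_mem, Ideal.mem_span_singleton']
    constructor
    · rintro ⟨w, rfl⟩
      refine ⟨w, ?_⟩
      rw [mulA_apply, Algebra.smul_def, Ideal.Quotient.algebraMap_eq, mul_comm]
    · rintro ⟨w, rfl⟩
      refine ⟨w, ?_⟩
      rw [mulA_apply, Algebra.smul_def, Ideal.Quotient.algebraMap_eq, mul_comm])).trans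
    (Submodule.Quotient.restrictScalarsEquiv A (Ideal.span {Ideal.Quotient.mk I x}))

/-- A prime with only maximal primes strictly above it. -/
def CoMax (p : Ideal B) : Prop := ∀ r : Ideal B, r.IsPrime → p ≤ r → r ≠ p → r.IsMaximal

theorem injective_mulA {p : PrimeSpectrum B} {x : B} (hx : x ∉ p.asIdeal) :
    Injective (mulA A (B ⧸ p.asIdeal) x) := by
  intro a b h
  obtain ⟨a, rfl⟩ := Ideal.Quotient.mk_surjective a
  obtain ⟨b, rfl⟩ := Ideal.Quotient.mk_surjective b
  simp only [mulA_apply, Algebra.smul_def, Ideal.Quotient.algebraMap_eq, ← map_mul,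
    Ideal.Quotient.eq, ← mul_sub] at h ⊢
  exact (p.2.mem_or_mem h).resolve_left hx

theorem hasIndex_quotient {p : PrimeSpectrum B} (hp : CoMax p.asIdeal) {x : B} (hx : x ∉ p.asIdeal) :
    HasIndex (mulA A (B ⧸ p.asIdeal) x) := by
  haveI := IsNoetherianRing.of_finite A B
  refine ⟨?_, ?_⟩
  · have : Subsingleton (ker (mulA A (B ⧸ p.asIdeal) x)) := by
      rw [Submodule.subsingleton_iff_eq_bot]; exact ker_eq_bot.2 (injective_mulA hx)
    simp [Module.length_eq_zero]
  · rw [(cokerEquiv p.asIdeal x).length_eq]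
    refine length_ne_top (B := B) _ fun r hr => ?_
    rw [Module.support_eq_zeroLocus, PrimeSpectrum.mem_zeroLocus, SetLike.coe_subset_coe] at hr
    have key : ∀ b : B, Ideal.Quotient.mk p.asIdeal b ∈
        Ideal.span {Ideal.Quotient.mk p.asIdeal x} → b ∈ r.asIdeal := fun b hb =>
      hr (Module.mem_annihilator.mpr fun m => by
        obtain ⟨m, rfl⟩ := Submodule.Quotient.mk_surjective _ m
        rw [← Submodule.Quotient.mk_smul, Submodule.Quotient.mk_eq_zero, Algebra.smul_def,
          Ideal.Quotient.algebraMap_eq]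
        exact Ideal.mul_mem_right _ _ hb)
    have h1 : p.asIdeal ≤ r.asIdeal := fun b hb => key b (by
      rw [Ideal.Quotient.eq_zero_iff_mem.mpr hb]; exact Ideal.zero_mem _)
    have h2 : x ∈ r.asIdeal := key x (Ideal.mem_span_singleton_self _)
    exact hp r.asIdeal r.2 h1 fun e => hx (e ▸ h2)

theorem index_quotient {p : PrimeSpectrum B} {x : B} (hx : x ∉ p.asIdeal) :
    index (mulA A (B ⧸ p.asIdeal) x) = ordA A (Ideal.Quotient.mk p.asIdeal x) := by
  haveI := IsNoetherianRing.of_finite A B
  rw [index_of_injective (f := mulA A (B ⧸ p.asIdeal) x) (injective_mulA hx), lenZ_congr (cokerEquiv p.asIdeal x)]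
  rfl

theorem ordA_one {D : Type u} [CommRing D] [Algebra A D] : ordA A (1 : D) = 0 := by
  have : Subsingleton (D ⧸ Ideal.span {(1 : D)}) :=
    Submodule.Quotient.subsingleton_iff.mpr Ideal.span_singleton_one
  simp [ordA, lenZ, Module.length_eq_zero]

theorem ordA_mul {p : PrimeSpectrum B} (hp : CoMax p.asIdeal) {x y : B} (hx : x ∉ p.asIdeal)
    (hy : y ∉ p.asIdeal) :
    ordA A (Ideal.Quotient.mk p.asIdeal (x * y)) =
      ordA A (Ideal.Quotient.mk p.asIdeal x) + ordA A (Ideal.Quotient.mk p.asIdeal y) := by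
  rw [← index_quotient (fun h => (p.2.mem_or_mem h).elim hx hy), ← index_quotient hx, ← index_quotient hy,
    ← index_comp (hasIndex_quotient hp hx) (hasIndex_quotient hp hy)]
  congr 1
  exact LinearMap.ext fun m => mul_smul x y m

/-- The index of a multiplication, with lengths over the base. -/
theorem index_mulA_eq_sum [IsNoetherianRing B] (x : B) (T : Finset (PrimeSpectrum B))
    (hT : ∀ p ∈ T, ¬ p.asIdeal.IsMaximal) (hanti : ∀ p ∈ T, ∀ q ∈ T, q ≤ p → q = p)
    (hx : ∀ p ∈ T, x ∉ p.asIdeal) (hc : ∀ p ∈ T, CoMax p.asIdeal) {M : Type u} [AddCommGroup M]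
    [Module B M] [iA : Module A M] [iT : IsScalarTower A B M] [hM : Module.Finite B M]
    (hsupp : ∀ p ∈ Module.support B M, ¬ p.asIdeal.IsMaximal → p ∈ T) :
    HasIndex (mulA A M x) ∧ index (mulA A M x) = ∑ p ∈ T,
      ordA A (Ideal.Quotient.mk p.asIdeal x) *
        lenZ (Localization p.asIdeal.primeCompl) (LocalizedModule p.asIdeal.primeCompl M) := by
  revert hsupp iA iT
  induction hM using IsNoetherianRing.induction_on_isQuotientEquivQuotientPrime B with
  | subsingleton N =>
    intro _ _ _
    have hb : Bijective (mulA A N x) :=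
      ⟨fun a b _ => Subsingleton.elim a b, fun a => ⟨a, Subsingleton.elim _ _⟩⟩
    refine ⟨hasIndex_of_bijective hb, ?_⟩
    rw [index_of_bijective hb, Finset.sum_eq_zero]
    intro p _
    simp [lenZ, Module.length_eq_zero]
  | quotient N q f =>
    intro _ _ hsupp
    have hqs : q ∈ Module.support B N := by
      rw [f.support_eq, Module.support_eq_zeroLocus, Ideal.annihilator_quotient]
      exact le_refl q.asIdeal
    by_cases hqm : q.asIdeal.IsMaximal
    · have hN : Module.length A N ≠ ⊤ := length_ne_top (B := B) N fun p hp => by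
        rw [f.support_eq, Module.support_eq_zeroLocus, Ideal.annihilator_quotient] at hp
        rw [← hqm.eq_of_le p.2.ne_top hp]; exact hqm
      refine ⟨hasIndex_of_finite hN hN, ?_⟩
      rw [index_of_finite hN hN, sub_self, Finset.sum_eq_zero]
      intro p hp
      have : ¬ q.asIdeal ≤ p.asIdeal := fun h => hT p hp (by
        rw [← hqm.eq_of_le p.2.ne_top h]; exact hqm)
      simp [lenZ, length_localized_quotient_eq_zero p.asIdeal q.asIdeal f this]
    · have hq : q ∈ T := hsupp q hqs hqm
      obtain ⟨h1, h2⟩ := hasIndex_index_congr (f' := mulA A N x) (f.symm.restrictScalars A)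
        (f.symm.restrictScalars A) (fun z => by simp [mulA_apply, map_smul])
        (hasIndex_quotient (A := A) (hc q hq) (hx q hq))
      refine ⟨h1, ?_⟩
      rw [h2, index_quotient (hx q hq), Finset.sum_eq_single_of_mem q hq]
      · simp [lenZ, length_localized_quotient_eq_one q.asIdeal f]
      · intro p hp hne
        have : ¬ q.asIdeal ≤ p.asIdeal := fun h => hne (hanti p hp q hq h).symm
        simp [lenZ, length_localized_quotient_eq_zero p.asIdeal q.asIdeal f this]
  | exact N₁ N₂ N₃ f g hf hg hfg h₁ h₃ =>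
    intro _ _ hsupp
    letI : Module A N₁ := Module.compHom N₁ (algebraMap A B)
    haveI : IsScalarTower A B N₁ := IsScalarTower.of_algebraMap_smul fun _ _ => rfl
    letI : Module A N₃ := Module.compHom N₃ (algebraMap A B)
    haveI : IsScalarTower A B N₃ := IsScalarTower.of_algebraMap_smul fun _ _ => rfl
    obtain ⟨a1, a2⟩ := h₁ fun p hp => hsupp p (Module.support_subset_of_injective f hf hp)
    obtain ⟨b1, b2⟩ := h₃ fun p hp => hsupp p (Module.support_subset_of_surjective g hg hp)
    obtain ⟨c1, c2⟩ := hasIndex_index_of_ladder (f₁ := f.restrictScalars A) (f₂ := g.restrictScalars A) (g₁ := f.restrictScalars A) (g₂ := g.restrictScalars A)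
      (i₁ := mulA A N₁ x) (i₂ := mulA A N₂ x) (i₃ := mulA A N₃ x) hf hfg hg hf hfg hg
      (by ext z; simp [mulA_apply]) (by ext z; simp [mulA_apply]) a1 b1
    refine ⟨c1, ?_⟩
    rw [c2, a2, b2, ← Finset.sum_add_distrib]
    refine Finset.sum_congr rfl fun p hp => ?_
    have hloc : ∀ (N : Type u) [AddCommGroup N] [Module B N] [Module.Finite B N],
        (∀ q ∈ Module.support B N, q ∈ Module.support B N₂) →
        Module.length (Localization p.asIdeal.primeCompl)
          (LocalizedModule p.asIdeal.primeCompl N) ≠ ⊤ := by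
      intro N _ _ _ hN
      refine length_localized_ne_top p fun q hq hqp => hanti p hp q (hsupp q (hN q hq) ?_) hqp
      intro hqm
      exact hT p hp (by rw [← hqm.eq_of_le p.2.ne_top hqp]; exact hqm)
    have := hloc N₁ fun q hq => Module.support_subset_of_injective f hf hq
    have := hloc N₃ fun q hq => Module.support_subset_of_surjective g hg hq
    unfold lenZ
    rw [length_localized_add _ f g hf hg hfg, ENat.toNat_add (by assumption) (by assumption)]
    push_cast
    ring

/-- The kernels of the two crossed multiplications agree. -/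
theorem index_mulA_symm {x y : B} (hx : x ∈ nonZeroDivisors B) (hy : y ∈ nonZeroDivisors B) :
    index (mulA A (B ⧸ Ideal.span {x}) y) = index (mulA A (B ⧸ Ideal.span {y}) x) := by
  let ρ : ∀ (I : Ideal B) (z : B), B →ₗ[A] (B ⧸ I) ⧸ range (mulA A (B ⧸ I) z) := fun I z =>
    (range (mulA A (B ⧸ I) z)).mkQ ∘ₗ ((Submodule.mkQ I).restrictScalars A)
  have hρ : ∀ I z, Surjective (ρ I z) := fun I z =>
    (Submodule.mkQ_surjective _).comp (Submodule.mkQ_surjective I)
  have hker : ∀ v z : B, ker (ρ (Ideal.span {v}) z) = (Ideal.span {v, z}).restrictScalars A := by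
    intro v z
    ext m
    rw [Submodule.restrictScalars_mem, Ideal.mem_span_pair]
    show (Submodule.Quotient.mk (Submodule.Quotient.mk m) : _ ⧸ range (mulA A (B ⧸ Ideal.span {v}) z)) = 0 ↔ _
    rw [Submodule.Quotient.mk_eq_zero]
    constructor
    · rintro ⟨w, hw⟩
      obtain ⟨w, rfl⟩ := Submodule.Quotient.mk_surjective _ w
      rw [mulA_apply, ← Submodule.Quotient.mk_smul, Submodule.Quotient.eq,
        Ideal.mem_span_singleton'] at hw
      obtain ⟨c, hc⟩ := hw
      exact ⟨-c, w, by rw [neg_mul, hc, smul_eq_mul]; ring⟩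
    · rintro ⟨c, w, rfl⟩
      refine ⟨Submodule.Quotient.mk w, ?_⟩
      rw [mulA_apply, ← Submodule.Quotient.mk_smul, Submodule.Quotient.eq, Ideal.mem_span_singleton']
      exact ⟨-c, by rw [smul_eq_mul]; ring⟩
  have hcok : lenZ A ((B ⧸ Ideal.span {x}) ⧸ range (mulA A (B ⧸ Ideal.span {x}) y)) =
      lenZ A ((B ⧸ Ideal.span {y}) ⧸ range (mulA A (B ⧸ Ideal.span {y}) x)) := by
    refine lenZ_congr (((ρ _ y).quotKerEquivOfSurjective (hρ _ _)).symm ≪≫ₗ ?_ ≪≫ₗ
      (ρ _ x).quotKerEquivOfSurjective (hρ _ _))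
    refine Submodule.quotEquivOfEq _ _ ?_
    rw [hker, hker, Ideal.span_pair_comm]
  let W : Submodule A (B × B) :=
    ker ((LinearMap.mulLeft A y).comp (fst A B B) - (LinearMap.mulLeft A x).comp (snd A B B))
  have hW : ∀ w : W, y * (w : B × B).1 = x * (w : B × B).2 := fun w => sub_eq_zero.mp w.2
  let π₁ : W →ₗ[A] ker (mulA A (B ⧸ Ideal.span {x}) y) :=
    LinearMap.codRestrict _ ((((Submodule.mkQ (Ideal.span {x})).restrictScalars A).comp (fst A B B)).comp
      W.subtype) fun w => by
        show Submodule.Quotient.mk (y • (w : B × B).1) = 0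
        rw [Submodule.Quotient.mk_eq_zero, smul_eq_mul, hW]
        exact Ideal.mul_mem_right _ _ (Ideal.mem_span_singleton_self x)
  let π₂ : W →ₗ[A] ker (mulA A (B ⧸ Ideal.span {y}) x) :=
    LinearMap.codRestrict _ ((((Submodule.mkQ (Ideal.span {y})).restrictScalars A).comp (snd A B B)).comp
      W.subtype) fun w => by
        show Submodule.Quotient.mk (x • (w : B × B).2) = 0
        rw [Submodule.Quotient.mk_eq_zero, smul_eq_mul, ← hW]
        exact Ideal.mul_mem_right _ _ (Ideal.mem_span_singleton_self y)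
  have h₁ : Surjective π₁ := by
    rintro ⟨z, hz⟩
    obtain ⟨z, rfl⟩ := Submodule.Quotient.mk_surjective _ z
    rw [LinearMap.mem_ker, mulA_apply, ← Submodule.Quotient.mk_smul, Submodule.Quotient.mk_eq_zero,
      Ideal.mem_span_singleton] at hz
    obtain ⟨w, hw⟩ := hz
    exact ⟨⟨(z, w), sub_eq_zero.mpr hw⟩, rfl⟩
  have h₂ : Surjective π₂ := by
    rintro ⟨z, hz⟩
    obtain ⟨z, rfl⟩ := Submodule.Quotient.mk_surjective _ z
    rw [LinearMap.mem_ker, mulA_apply, ← Submodule.Quotient.mk_smul, Submodule.Quotient.mk_eq_zero,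
      Ideal.mem_span_singleton] at hz
    obtain ⟨w, hw⟩ := hz
    exact ⟨⟨(w, z), sub_eq_zero.mpr hw.symm⟩, rfl⟩
  have hker12 : ker π₁ = ker π₂ := by
    ext w
    rw [LinearMap.mem_ker, LinearMap.mem_ker, ← Subtype.coe_inj, ← Subtype.coe_inj]
    show Submodule.Quotient.mk (w : B × B).1 = (0 : B ⧸ Ideal.span {x}) ↔
      Submodule.Quotient.mk (w : B × B).2 = (0 : B ⧸ Ideal.span {y})
    rw [Submodule.Quotient.mk_eq_zero, Submodule.Quotient.mk_eq_zero, Ideal.mem_span_singleton,
      Ideal.mem_span_singleton]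
    constructor
    · rintro ⟨c, hc⟩
      refine ⟨c, (mul_cancel_left_mem_nonZeroDivisors hx).mp ?_⟩
      rw [← hW, hc]; ring
    · rintro ⟨c, hc⟩
      refine ⟨c, (mul_cancel_left_mem_nonZeroDivisors hy).mp ?_⟩
      rw [hW, hc]; ring
  have hk : lenZ A (ker (mulA A (B ⧸ Ideal.span {x}) y)) = lenZ A (ker (mulA A (B ⧸ Ideal.span {y}) x)) :=
    lenZ_congr ((π₁.quotKerEquivOfSurjective h₁).symm ≪≫ₗ Submodule.quotEquivOfEq _ _ hker12 ≪≫ₗ
      π₂.quotKerEquivOfSurjective h₂)
  unfold index
  rw [hcok, hk]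

end Groth.Agent.CycKey
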