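import Groth.Agent.CycKey.Reduce
import Groth.Agent.CycGlue.Factorization

/-!
# The key lemma
-/

set_option autoImplicit false
set_option linter.style.haveILetI false
set_option linter.unusedSectionVars false

namespace Groth.Agent.CycKey

open IsLocalRing

universe u

variable {A : Type u} [CommRing A] [IsNoetherianRing A] [IsLocalRing A]

theorem key_lemma (hA : ringKrullDim A = 2) {a b : A} (ha : a ∈ nonZeroDivisors A) (hb : b ∈ nonZeroDivisors A) :
    ∑ᶠ (q : PrimeSpectrum A) (_ : q.asIdeal.height = 1),
      CycAlg.ordFrac (A ⧸ q.asIdeal) q.asIdeal.ResidueField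
        (CycAlg.tameSymbol (Localization.AtPrime q.asIdeal) (algebraMap A (Localization.AtPrime q.asIdeal) a)
          (algebraMap A (Localization.AtPrime q.asIdeal) b)) = 0 := by
  classical
  have hd : Dim2 A := dim2_of_ringKrullDim hA
  let t := a * b
  have ht : t ∈ nonZeroDivisors A := mul_mem ha hb
  have hft := finite_T hd ht
  let S := hft.toFinset
  let r := S.card
  let iS := S.equivFin.symm
  let qP : Fin r → PrimeSpectrum A := fun i => (iS i).1
  have hqT : ∀ i, qP i ∈ T t := fun i => hft.mem_toFinset.mp (iS i).2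
  let q : Fin r → Ideal A := fun i => (qP i).asIdeal
  haveI : ∀ i, (q i).IsPrime := fun i => (qP i).2
  -- local extensions
  have hloc : ∀ i, ∃ (B : Type u) (_ : CommRing B) (_ : Algebra (Localization.AtPrime (q i)) B),
      CycAlg.IsFinExt (Localization.AtPrime (q i)) B (maximalIdeal (Localization.AtPrime (q i))) ∧
      ∀ n : MaximalSpectrum B, ∃ π : Localization.AtPrime n.asIdeal,
        π ∈ nonZeroDivisors (Localization.AtPrime n.asIdeal) ∧
        ∀ j : Fin 2, ∃ (v : (Localization.AtPrime n.asIdeal)ˣ) (e : ℕ),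
          algebraMap (Localization.AtPrime (q i)) (Localization.AtPrime n.asIdeal)
            (![algebraMap A (Localization.AtPrime (q i)) a, algebraMap A (Localization.AtPrime (q i)) b] j) =
            (v : Localization.AtPrime n.asIdeal) * π ^ e := fun i => by
    haveI := isNoetherian_atPrime (B := A) (qP i)
    have hnu : ¬ IsUnit (loc (qP i) t) := fun h => isUnit_loc.mp h (hqT i).2
    have h2 : ∀ j : Fin 2, (![loc (qP i) a, loc (qP i) b] j) ∈ nonZeroDivisors _ :=
      Fin.forall_fin_two.mpr ⟨mem_nzd_atPrime ha _, mem_nzd_atPrime hb _⟩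
    by_cases hua : IsUnit (loc (qP i) a)
    · exact CycGlue.Factor.exists_factorization (krullDimLE_atPrime hd (hqT i).1) _ h2 1
        fun h => hnu (by rw [map_mul]; exact hua.mul h)
    · exact CycGlue.Factor.exists_factorization (krullDimLE_atPrime hd (hqT i).1) _ h2 0 hua
  choose B iB iBalg hfin π hπ v e hfac using hloc
  letI := iB
  letI := iBalg
  letI : ∀ i, Algebra A (B i) := fun i =>
    ((algebraMap (Localization.AtPrime (q i)) (B i)).comp
      (algebraMap A (Localization.AtPrime (q i)))).toAlgebra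
  haveI : ∀ i, IsScalarTower A (Localization.AtPrime (q i)) (B i) := fun i =>
    IsScalarTower.of_algebraMap_eq fun _ => rfl
  have hA' : ∀ i (n : MaximalSpectrum (B i)) (x : A),
      algebraMap (Localization.AtPrime (q i)) (Localization.AtPrime n.asIdeal)
        (algebraMap A (Localization.AtPrime (q i)) x) = algebraMap A (Localization.AtPrime n.asIdeal) x :=
    fun i n x => by
      rw [IsScalarTower.algebraMap_apply (Localization.AtPrime (q i)) (B i) (Localization.AtPrime n.asIdeal),
        ← IsScalarTower.algebraMap_apply A (Localization.AtPrime (q i)) (B i),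
        ← IsScalarTower.algebraMap_apply A (B i) (Localization.AtPrime n.asIdeal)]
  have hfa : ∀ i n, algebraMap A (Localization.AtPrime n.asIdeal) a = (v i n 0 : Localization.AtPrime n.asIdeal) * π i n ^ e i n 0 :=
    fun i n => (hA' i n a).symm.trans (hfac i n 0)
  have hfb : ∀ i n, algebraMap A (Localization.AtPrime n.asIdeal) b = (v i n 1 : Localization.AtPrime n.asIdeal) * π i n ^ e i n 1 :=
    fun i n => (hA' i n b).symm.trans (hfac i n 1)
  choose N hN using fun i => (hfin i).2.2
  have d : CycGlue.Curve.Data t q B (Finset.univ.sup N) :=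
    { nzd := ht
      mem := fun i => (hqT i).2
      inj := fun i j h => iS.injective (Subtype.ext (PrimeSpectrum.ext h))
      minimal := fun i p hp htp hle => congrArg PrimeSpectrum.asIdeal
        (eq_of_le_of_height hd (p := ⟨p, hp⟩) (r := qP i) (one_le_height ht htp) (hqT i).1 hle)
      injective := fun i => (hfin i).1
      finite := fun i => (hfin i).2.1
      regular := fun i => by
        have hT' : algebraMap A (B i) t ∈ nonZeroDivisors (B i) := by
          rw [mem_nonZeroDivisors_iff_right]
          intro x hx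
          by_contra hx0
          obtain ⟨m, hm, hle⟩ := Ideal.exists_le_maximal (LinearMap.ker (LinearMap.toSpanSingleton (B i) (B i) x))
            fun h => hx0 (by
              have h1 := (Ideal.eq_top_iff_one _).mp h
              rw [LinearMap.mem_ker, LinearMap.toSpanSingleton_apply, one_smul] at h1
              exact h1)
          let n : MaximalSpectrum (B i) := ⟨m, hm⟩
          have htn : algebraMap A (Localization.AtPrime n.asIdeal) t ∈ nonZeroDivisors _ := by
            rw [map_mul, hfa, hfb]
            exact mul_mem (mul_mem (v i n 0).isUnit.mem_nonZeroDivisors (pow_mem (hπ i n) _))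
              (mul_mem (v i n 1).isUnit.mem_nonZeroDivisors (pow_mem (hπ i n) _))
          have h0 : algebraMap (B i) (Localization.AtPrime n.asIdeal) x = 0 := by
            refine mem_nonZeroDivisors_iff_right.mp htn _ ?_
            rw [IsScalarTower.algebraMap_apply A (B i) (Localization.AtPrime n.asIdeal), ← map_mul, hx, map_zero]
          obtain ⟨c, hc⟩ := (IsLocalization.map_eq_zero_iff n.asIdeal.primeCompl _ x).mp h0
          exact c.2 (hle (by rw [LinearMap.mem_ker, LinearMap.toSpanSingleton_apply, smul_eq_mul]; exact hc))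
        intro x y h
        have h' : t • x = t • y := h
        rw [Algebra.smul_def, Algebra.smul_def] at h'
        exact (mul_cancel_left_mem_nonZeroDivisors hT').mp h'
      coker := fun i x => by
        have htm : algebraMap A (Localization.AtPrime (q i)) t ∈ maximalIdeal (Localization.AtPrime (q i)) :=
          (IsLocalization.AtPrime.to_map_mem_maximal_iff (Localization.AtPrime (q i)) (q i) t).mpr (hqT i).2
        obtain ⟨α, hα⟩ := hN i _ (Ideal.pow_mem_pow htm (N i)) x
        obtain ⟨⟨c, s⟩, hcs⟩ := IsLocalization.surj (q i).primeCompl α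
        obtain ⟨g, hg⟩ := pow_dvd_pow t (Finset.le_sup (f := N) (Finset.mem_univ i))
        refine ⟨g * c, s, s.2, ?_⟩
        rw [map_mul, IsScalarTower.algebraMap_apply A (Localization.AtPrime (q i)) (B i) c, ← hcs,
          map_mul, hα, ← IsScalarTower.algebraMap_apply, hg, Algebra.smul_def, Algebra.smul_def,
          Algebra.smul_def, map_mul, ← map_pow, ← IsScalarTower.algebraMap_apply]
        ring }
  obtain ⟨C, hfg, -, hC⟩ := d.exists_glue
  haveI : Module.Finite A C := Module.Finite.iff_fg.mpr hfg
  haveI : IsNoetherianRing C := IsNoetherianRing.of_finite A C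
  have hdC : Dim2 C := dim2_of_finite hd
  choose φ hφ using hC
  have hnzd : ∀ x : A, x ∣ t → algebraMap A C x ∈ nonZeroDivisors C := fun x hx => by
    refine mem_nonZeroDivisors_of_injective (f := C.val.toRingHom) Subtype.val_injective ?_
    show algebraMap A (Localization.Away t) x ∈ _
    exact (isUnit_of_dvd_unit (map_dvd _ hx) (IsLocalization.Away.algebraMap_isUnit t)).mem_nonZeroDivisors
  have hat := hnzd a (dvd_mul_right a b)
  have hbt := hnzd b (dvd_mul_left b a)
  let z := algebraMap A C t
  have hz : z ∈ nonZeroDivisors C := hnzd t dvd_rfl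
  let fib : PrimeSpectrum A → Set (PrimeSpectrum C) := fun Q => {p | p.asIdeal.comap (algebraMap A C) = Q.asIdeal}
  -- the fibres
  have main : ∀ Q ∈ T t,
      CycAlg.ordFrac (A ⧸ Q.asIdeal) Q.asIdeal.ResidueField
        (CycAlg.tameSymbol (Localization.AtPrime Q.asIdeal) (algebraMap A (Localization.AtPrime Q.asIdeal) a)
          (algebraMap A (Localization.AtPrime Q.asIdeal) b)) =
        ∑ᶠ p ∈ fib Q, term A p (algebraMap A C a) (algebraMap A C b) ∧
      ∀ p ∈ fib Q, ∃ ϖ : Localization.AtPrime p.asIdeal,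
        ϖ ∈ nonZeroDivisors (Localization.AtPrime p.asIdeal) ∧ ¬ IsUnit ϖ ∧
        ∃ i j : ℕ, Associated (loc p (algebraMap A C a)) (ϖ ^ i) ∧ Associated (loc p (algebraMap A C b)) (ϖ ^ j) := by
    intro Q hQ
    obtain ⟨i, rfl⟩ : ∃ i, qP i = Q := ⟨S.equivFin ⟨Q, hft.mem_toFinset.mpr hQ⟩, by simp [qP, iS]⟩
    letI : Algebra C (B i) := (φ i).toRingHom.toAlgebra
    haveI : IsScalarTower A C (B i) := IsScalarTower.of_algebraMap_eq fun x => ((φ i).commutes x).symm
    haveI : Module.Finite (Localization.AtPrime (q i)) (B i) := (hfin i).2.1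
    haveI : IsLocalization (Algebra.algebraMapSubmonoid C (q i).primeCompl) (B i) := by
      have h := hφ i
      rw [← isLocalizedModule_iff_isLocalization]
      exact h
    exact ordFrac_eq_sum (qP i) (hqT i).1 hd (one_le_height ht (hqT i).2) ha hb (hqT i).2 (hfin i)
      (π i) (hπ i) (fun n => e i n 0) (fun n => e i n 1) (fun n => v i n 0) (fun n => v i n 1)
      (hfa i) (hfb i)
  have hTz : ∀ p : PrimeSpectrum C, p ∈ T z ↔ ∃ Q ∈ T t, p ∈ fib Q := fun p => by
    haveI : Algebra.IsIntegral A C := Algebra.IsIntegral.of_finite A C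
    constructor
    · intro hp
      refine ⟨⟨p.asIdeal.comap (algebraMap A C), inferInstance⟩, ⟨fun h => hp.1 ?_, hp.2⟩, rfl⟩
      exact Ideal.isMaximal_of_isIntegral_of_isMaximal_comap p.asIdeal h
    · rintro ⟨Q, hQ, hpQ⟩
      refine ⟨fun h => hQ.1 ?_, show t ∈ p.asIdeal.comap (algebraMap A C) by rw [hpQ]; exact hQ.2⟩
      haveI := h
      rw [← hpQ]
      exact Ideal.isMaximal_comap_of_isIntegral_of_isMaximal p.asIdeal
  have hTe : z = algebraMap A C a * algebraMap A C b := map_mul _ _ _
  have hsa : T (algebraMap A C a) ⊆ T z := by rw [hTe, T_mul]; exact Set.subset_union_left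
  have hsb : T (algebraMap A C b) ⊆ T z := by rw [hTe, T_mul]; exact Set.subset_union_right
  have hpar : ∀ p ∈ T z, _ := fun p hp =>
    let ⟨Q, hQ, hpQ⟩ := (hTz p).mp hp
    (main Q hQ).2 p hpQ
  choose ϖ hϖ hϖu i j hi hj using hpar
  have hL : L A (algebraMap A C a) (algebraMap A C b) = 0 :=
    L_eq_zero hdC hz hat hbt hsa hsb ϖ hϖ hϖu fun p hp => ⟨i p hp, j p hp, hi p hp, hj p hp⟩
  -- the sum
  have hset : ∑ᶠ (q : PrimeSpectrum A) (_ : q.asIdeal.height = 1),
      CycAlg.ordFrac (A ⧸ q.asIdeal) q.asIdeal.ResidueField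
        (CycAlg.tameSymbol (Localization.AtPrime q.asIdeal) (algebraMap A (Localization.AtPrime q.asIdeal) a)
          (algebraMap A (Localization.AtPrime q.asIdeal) b)) =
      ∑ Q ∈ S, ∑ᶠ p ∈ fib Q, term A p (algebraMap A C a) (algebraMap A C b) := by
    show ∑ᶠ Q ∈ {Q : PrimeSpectrum A | Q.asIdeal.height = 1}, _ = _
    rw [finsum_mem_eq_sum_of_subset _ (t := S) ?_ ?_]
    · exact Finset.sum_congr rfl fun Q hQ => (main Q (hft.mem_toFinset.mp hQ)).1
    · rintro Q ⟨hQ1, hQs⟩
      simp only [Set.mem_setOf_eq] at hQ1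
      have hm : ¬ Q.asIdeal.IsMaximal := fun h => by
        have h2 := IsLocalRing.maximalIdeal_height_eq_ringKrullDim (R := A)
        rw [← IsLocalRing.eq_maximalIdeal h, hQ1, hA] at h2
        exact absurd h2 (by decide)
      refine hft.mem_toFinset.mpr ⟨hm, ?_⟩
      by_contra hnt
      refine hQs ?_
      haveI := isNoetherian_atPrime (B := A) Q
      have hu : ∀ x : A, x ∣ t → IsUnit (loc Q x) := fun x hx =>
        isUnit_loc.mpr fun h => hnt (Q.asIdeal.mem_of_dvd hx h)
      show CycAlg.ordFrac _ _ (CycAlg.tameSymbol _ (loc Q a) (loc Q b)) = 0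
      rw [CycGlue.Tame.tameSymbol_of_isUnit (krullDimLE_atPrime hd hm) (hu a (dvd_mul_right a b)) (hu b (dvd_mul_left b a))]
      haveI := krullDimLE_quotient (coMax_of_height hd hQ1.ge)
      exact LenLib.ordFrac_one
    · intro Q hQ
      have hQ' := hft.mem_toFinset.mp hQ
      exact le_antisymm (hd Q hQ'.1) (one_le_height ht hQ'.2)
  have fz := finite_T hdC hz
  rw [hset, ← hL, L_eq_sum hdC hz hsa hsb]
  have hfib : ∀ Q ∈ S, ∑ᶠ p ∈ fib Q, term A p (algebraMap A C a) (algebraMap A C b) =
      ∑ p ∈ fz.toFinset.filter (fun p => (⟨p.asIdeal.comap (algebraMap A C), inferInstance⟩ : PrimeSpectrum A) = Q),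
        term A p (algebraMap A C a) (algebraMap A C b) := fun Q hQ => by
    refine finsum_mem_eq_sum_of_subset _ (fun p hp => ?_) fun p hp => ?_
    · simp only [Finset.coe_filter, Set.mem_setOf_eq, Set.Finite.mem_toFinset]
      exact ⟨(hTz p).mpr ⟨Q, hft.mem_toFinset.mp hQ, hp.1⟩, PrimeSpectrum.ext hp.1⟩
    · simp only [Finset.coe_filter, Set.mem_setOf_eq] at hp
      exact congrArg PrimeSpectrum.asIdeal hp.2
  rw [Finset.sum_congr rfl hfib]
  refine Finset.sum_fiberwise_of_maps_to (fun p hp => ?_) _
  obtain ⟨Q, hQ, hpQ⟩ := (hTz p).mp (fz.mem_toFinset.mp hp)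
  rw [show (⟨p.asIdeal.comap (algebraMap A C), inferInstance⟩ : PrimeSpectrum A) = Q from PrimeSpectrum.ext hpQ]
  exact hft.mem_toFinset.mpr hQ

end Groth.Agent.CycKey
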