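import Groth.Agent.CycKey.Order
import Groth.Agent.LenLib.OrdFrac
import Groth.Agent.S14503

/-!
# Orders of norms along curves
-/

set_option autoImplicit false
set_option linter.style.haveILetI false
set_option linter.unusedSectionVars false

namespace Groth.Agent.CycKey

open IsLocalRing Groth.Agent.LenLib
open Groth.Agent.CycGlue.Tame (nrm isLocalHom_localization finite_residueField)

universe u

variable {A : Type u} [CommRing A] [IsNoetherianRing A] {C : Type u} [CommRing C] [Algebra A C]
  [Module.Finite A C] {T : Type u} [CommRing T] [Algebra C T] [Algebra A T] [IsScalarTower A C T]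

theorem dim2_of_ringKrullDim [IsLocalRing A] (hA : ringKrullDim A = 2) : Dim2 A := fun p hp => by
  have hlt : p.asIdeal < maximalIdeal A :=
    lt_of_le_of_ne (le_maximalIdeal p.2.ne_top) fun e => hp (e ▸ maximalIdeal.isMaximal A)
  have h2 : (maximalIdeal A).height = 2 := by
    have := IsLocalRing.maximalIdeal_height_eq_ringKrullDim (R := A)
    rw [hA] at this
    exact WithBot.coe_injective this
  have := (Ideal.height_add_one_le_of_lt_of_isPrime hlt).trans h2.le
  rw [show (2 : ℕ∞) = 1 + 1 from rfl] at this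
  exact (ENat.add_le_add_iff_right ENat.one_ne_top).mp this

theorem dim2_of_finite (hA : Dim2 A) : Dim2 C := fun p hp => by
  haveI : Algebra.IsIntegral A C := Algebra.IsIntegral.of_finite A C
  let q : PrimeSpectrum A := ⟨p.asIdeal.comap (algebraMap A C), inferInstance⟩
  have hq : ¬ q.asIdeal.IsMaximal := fun h =>
    hp (Ideal.isMaximal_of_isIntegral_of_isMaximal_comap p.asIdeal h)
  refine le_trans ?_ (hA q hq)
  rw [PrimeSpectrum.height_eq_orderHeight, PrimeSpectrum.height_eq_orderHeight]
  exact Order.height_le_height_apply_of_strictMono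
    (fun P : PrimeSpectrum C => (⟨P.asIdeal.comap (algebraMap A C), inferInstance⟩ : PrimeSpectrum A))
    (fun P P' h => Ideal.IsIntegral.comap_lt_comap (R := A) h) p

theorem krullDimLE_quotient {q : PrimeSpectrum A} (hq : CoMax q.asIdeal) :
    Ring.KrullDimLE 1 (A ⧸ q.asIdeal) := by
  rw [Ring.krullDimLE_one_iff]
  intro I hI
  haveI := hI
  by_cases h : I.comap (Ideal.Quotient.mk q.asIdeal) = q.asIdeal
  · left
    have : I = ⊥ := by
      rw [← Ideal.map_comap_of_surjective _ Ideal.Quotient.mk_surjective I, h, Ideal.map_quotient_self]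
    rw [this, IsDomain.minimalPrimes_eq_singleton_bot]
    rfl
  · right
    have hm := hq (I.comap (Ideal.Quotient.mk q.asIdeal)) (Ideal.IsPrime.comap _)
      (fun x hx => by
        show Ideal.Quotient.mk q.asIdeal x ∈ I
        rw [Ideal.Quotient.eq_zero_iff_mem.mpr hx]; exact I.zero_mem) h
    rw [← Ideal.map_comap_of_surjective _ Ideal.Quotient.mk_surjective I]
    exact (Ideal.map_eq_top_or_isMaximal_of_surjective _ Ideal.Quotient.mk_surjective hm).resolve_left
      fun e => hI.ne_top (by rw [← Ideal.map_comap_of_surjective _ Ideal.Quotient.mk_surjective I, e])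

theorem ringKrullDim_quotient {q : PrimeSpectrum A} (hq : CoMax q.asIdeal) (hqm : ¬ q.asIdeal.IsMaximal) :
    ringKrullDim (A ⧸ q.asIdeal) = 1 := by
  refine le_antisymm ?_ ?_
  · have := krullDimLE_quotient hq
    exact Ring.krullDimLE_iff.mp this
  · obtain ⟨m, hne, hm⟩ := Ring.not_isField_iff_exists_prime.mp fun hF =>
      hqm (Ideal.Quotient.maximal_of_isField q.asIdeal hF)
    let s : LTSeries (PrimeSpectrum (A ⧸ q.asIdeal)) :=
      { length := 1
        toFun := ![⟨⊥, Ideal.isPrime_bot⟩, ⟨m, hm⟩]
        step := fun i => by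
          fin_cases i
          exact lt_of_le_of_ne bot_le hne.symm }
    exact Order.LTSeries.length_le_krullDim s

theorem ordFrac_prod {R : Type u} [CommRing R] [IsDomain R] [IsNoetherianRing R] [Ring.KrullDimLE 1 R]
    {K : Type u} [Field K] [Algebra R K] [IsFractionRing R K] {ι : Type u} (s : Finset ι) (f : ι → K)
    (hf : ∀ i ∈ s, f i ≠ 0) : CycAlg.ordFrac R K (∏ i ∈ s, f i) = ∑ i ∈ s, CycAlg.ordFrac R K (f i) := by
  classical
  induction s using Finset.induction with
  | empty => simp [ordFrac_one]
  | insert a s ha ih =>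
    rw [Finset.prod_insert ha, Finset.sum_insert ha, ordFrac_mul (hf a (Finset.mem_insert_self _ _))
      (Finset.prod_ne_zero_iff.mpr fun i hi => hf i (Finset.mem_insert_of_mem hi)),
      ih fun i hi => hf i (Finset.mem_insert_of_mem hi)]

section point

variable (q : PrimeSpectrum A) [Algebra (Localization.AtPrime q.asIdeal) T]
  [IsScalarTower A (Localization.AtPrime q.asIdeal) T] [Module.Finite (Localization.AtPrime q.asIdeal) T]
  (n : MaximalSpectrum T) (p : PrimeSpectrum C)
  (ε : Localization.AtPrime p.asIdeal ≃ₐ[C] Localization.AtPrime n.asIdeal)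

include ε

/-- The order of a norm from a point of a finite extension. -/
theorem ord_nrm [IsLocalRing A] (hq : CoMax q.asIdeal) (hqm : ¬ q.asIdeal.IsMaximal) (hp : CoMax p.asIdeal)
    (hpq : p.asIdeal.comap (algebraMap A C) = q.asIdeal) {z : ResidueField (Localization.AtPrime n.asIdeal)}
    (hz : z ≠ 0) :
    CycAlg.ordFrac (A ⧸ q.asIdeal) q.asIdeal.ResidueField (nrm (Localization.AtPrime q.asIdeal) n z) =
      ordP A p (ResidueField.mapEquiv ε.symm.toRingEquiv z) := by
  haveI := isLocalHom_localization (A := Localization.AtPrime q.asIdeal) n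
  haveI := finite_residueField (A := Localization.AtPrime q.asIdeal) n
  haveI := krullDimLE_quotient hq
  haveI : IsLocalRing (A ⧸ q.asIdeal) :=
    IsLocalRing.of_surjective' (Ideal.Quotient.mk q.asIdeal) Ideal.Quotient.mk_surjective
  let κn := ResidueField (Localization.AtPrime n.asIdeal)
  let g : p.asIdeal.ResidueField ≃+* κn := ResidueField.mapEquiv ε.toRingEquiv
  let φ : C ⧸ p.asIdeal →+* κn := g.toRingHom.comp (algebraMap (C ⧸ p.asIdeal) p.asIdeal.ResidueField)
  letI : Algebra (C ⧸ p.asIdeal) κn := φ.toAlgebra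
  haveI : IsFractionRing (C ⧸ p.asIdeal) κn := by
    haveI : FaithfulSMul (C ⧸ p.asIdeal) κn :=
      (faithfulSMul_iff_algebraMap_injective _ _).mpr (g.injective.comp (IsFractionRing.injective _ _))
    refine IsFractionRing.of_field _ _ fun w => ?_
    obtain ⟨a, b, -, h⟩ := IsFractionRing.div_surjective (A := C ⧸ p.asIdeal) (g.symm w)
    exact ⟨a, b, by
      rw [show algebraMap (C ⧸ p.asIdeal) κn a = g (algebraMap _ _ a) from rfl,
        show algebraMap (C ⧸ p.asIdeal) κn b = g (algebraMap _ _ b) from rfl, ← map_div₀ g, h,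
        RingEquiv.apply_symm_apply]⟩
  letI : Algebra (A ⧸ q.asIdeal) (C ⧸ p.asIdeal) := Ideal.Quotient.algebraQuotientOfLEComap hpq.ge
  haveI : IsScalarTower A (A ⧸ q.asIdeal) (C ⧸ p.asIdeal) := IsScalarTower.of_algebraMap_eq fun _ => rfl
  haveI : Module.Finite (A ⧸ q.asIdeal) (C ⧸ p.asIdeal) := Module.Finite.of_restrictScalars_finite A _ _
  have hinj : Function.Injective (algebraMap (A ⧸ q.asIdeal) (C ⧸ p.asIdeal)) := by
    rw [injective_iff_map_eq_zero]
    intro x hx
    obtain ⟨x, rfl⟩ := Ideal.Quotient.mk_surjective x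
    have : Ideal.Quotient.mk p.asIdeal (algebraMap A C x) = 0 := hx
    rw [Ideal.Quotient.eq_zero_iff_mem] at this ⊢
    rw [← hpq]; exact this
  letI : Algebra (A ⧸ q.asIdeal) κn :=
    ((algebraMap q.asIdeal.ResidueField κn).comp (algebraMap (A ⧸ q.asIdeal) q.asIdeal.ResidueField)).toAlgebra
  haveI : IsScalarTower (A ⧸ q.asIdeal) q.asIdeal.ResidueField κn := IsScalarTower.of_algebraMap_eq fun _ => rfl
  have hg : ∀ c : C, g (algebraMap C p.asIdeal.ResidueField c) =
      residue (Localization.AtPrime n.asIdeal) (algebraMap C (Localization.AtPrime n.asIdeal) c) := fun c => by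
    show residue _ (ε (algebraMap C _ c)) = _
    rw [AlgEquiv.commutes]
  haveI : IsScalarTower (A ⧸ q.asIdeal) (C ⧸ p.asIdeal) κn := IsScalarTower.of_algebraMap_eq fun x => by
    obtain ⟨x, rfl⟩ := Ideal.Quotient.mk_surjective x
    show residue _ (algebraMap (Localization.AtPrime q.asIdeal) (Localization.AtPrime n.asIdeal)
        (algebraMap A (Localization.AtPrime q.asIdeal) x)) = g (algebraMap C p.asIdeal.ResidueField (algebraMap A C x))
    rw [hg, IsScalarTower.algebraMap_apply (Localization.AtPrime q.asIdeal) T (Localization.AtPrime n.asIdeal),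
      ← IsScalarTower.algebraMap_apply A (Localization.AtPrime q.asIdeal) T,
      IsScalarTower.algebraMap_apply C T (Localization.AtPrime n.asIdeal),
      ← IsScalarTower.algebraMap_apply A C T]
  have key : ∀ x : C, x ∉ p.asIdeal → CycAlg.ordFrac (A ⧸ q.asIdeal) q.asIdeal.ResidueField
      (nrm (Localization.AtPrime q.asIdeal) n (g (algebraMap C p.asIdeal.ResidueField x))) =
        ordA A (Ideal.Quotient.mk p.asIdeal x) := fun x hx => by
    obtain ⟨-, h⟩ := S14503.result (A ⧸ q.asIdeal) (ringKrullDim_quotient hq hqm) (C ⧸ p.asIdeal) hinj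
      q.asIdeal.ResidueField κn (Ideal.Quotient.mk p.asIdeal x)
      (fun h => hx (Ideal.Quotient.eq_zero_iff_mem.mp h))
    refine Eq.trans ?_ (h.symm.trans ?_)
    · rfl
    · unfold ordA lenZ
      rw [Module.length_eq_of_surjective (S := A) (R := A ⧸ q.asIdeal) Ideal.Quotient.mk_surjective]
  obtain ⟨a, b, ha, hb, hab⟩ := exists_div (p := p) (f := g.symm z) (by simpa using hz)
  have hne : ∀ c : C, c ∉ p.asIdeal → nrm (Localization.AtPrime q.asIdeal) n
      (g (algebraMap C p.asIdeal.ResidueField c)) ≠ 0 := fun c hc h =>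
    residueMap_ne_zero hc (g.map_eq_zero_iff.mp (Algebra.norm_eq_zero_iff.mp h))
  have hz' : z = g (algebraMap C p.asIdeal.ResidueField a) / g (algebraMap C p.asIdeal.ResidueField b) := by
    rw [← map_div₀ g, ← hab, RingEquiv.apply_symm_apply]
  have hN : nrm (Localization.AtPrime q.asIdeal) n z *
      nrm (Localization.AtPrime q.asIdeal) n (g (algebraMap C p.asIdeal.ResidueField b)) =
      nrm (Localization.AtPrime q.asIdeal) n (g (algebraMap C p.asIdeal.ResidueField a)) := by
    rw [← map_mul, hz', div_mul_cancel₀]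
    exact fun h => residueMap_ne_zero hb (g.map_eq_zero_iff.mp h)
  have hN0 : nrm (Localization.AtPrime q.asIdeal) n z ≠ 0 := fun h => hne a ha (by rw [← hN, h, zero_mul])
  have e := ordFrac_mul (A := A ⧸ q.asIdeal) hN0 (hne b hb)
  rw [show ResidueField.mapEquiv ε.symm.toRingEquiv z = g.symm z from rfl, hab, ordP_mk hp ha hb]
  have ea := key a ha
  have eb := key b hb
  rw [hN] at e
  linarith

end point

end Groth.Agent.CycKey
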