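import Groth.Agent.CycKey.Index
import Groth.Agent.CycGlue.TameDVR
import Mathlib.RingTheory.Ideal.KrullsHeightTheorem

/-!
# Orders along curves and the pairing
-/

set_option autoImplicit false
set_option linter.unusedSectionVars false

namespace Groth.Agent.CycKey

open Groth.Agent.LenLib IsLocalRing
open Groth.Agent.CycGlue.Tame (tameSymbol_of_pow tameSymbol_mul tameSymbol_self tameSymbol_of_isUnit
  tameSymbol_ne_zero)

universe u

variable {A : Type u} [CommRing A] [IsNoetherianRing A] {B : Type u} [CommRing B] [Algebra A B]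
  [Module.Finite A B]

variable (B) in
/-- No chain of three primes below a maximal one. -/
def Dim2 : Prop := ∀ p : PrimeSpectrum B, ¬ p.asIdeal.IsMaximal → p.asIdeal.height ≤ 1

/-- The curves along which an element vanishes. -/
def T (x : B) : Set (PrimeSpectrum B) := {p | ¬ p.asIdeal.IsMaximal ∧ x ∈ p.asIdeal}

theorem T_mul (x y : B) : T (x * y) = T x ∪ T y := by
  ext p
  exact ⟨fun ⟨h1, h2⟩ => (p.2.mem_or_mem h2).imp (fun h => ⟨h1, h⟩) fun h => ⟨h1, h⟩,
    fun h => h.elim (fun h => ⟨h.1, Ideal.mul_mem_right _ _ h.2⟩) fun h => ⟨h.1, Ideal.mul_mem_left _ _ h.2⟩⟩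

theorem one_le_height {z : B} (hz : z ∈ nonZeroDivisors B) {p : Ideal B} (hp : z ∈ p) : 1 ≤ p.height :=
  (Ideal.one_le_height_span_singleton_of_mem_nonZeroDivisors hz).trans
    (Ideal.height_mono ((Ideal.span_singleton_le_iff_mem p).mpr hp))

theorem eq_of_le_of_height (hd : Dim2 B) {p r : PrimeSpectrum B} (hp : 1 ≤ p.asIdeal.height)
    (hr : ¬ r.asIdeal.IsMaximal) (hle : p.asIdeal ≤ r.asIdeal) : p = r := by
  refine PrimeSpectrum.ext (eq_of_le_of_not_lt hle fun hlt => ?_)
  have h1 : p.asIdeal.height ≤ 1 := (Ideal.height_mono hle).trans (hd r hr)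
  haveI : p.asIdeal.FiniteHeight := ⟨Or.inr (ne_top_of_le_ne_top ENat.one_ne_top h1)⟩
  exact absurd ((Ideal.height_strict_mono_of_isPrime hlt).trans_le (hd r hr)) (not_lt.mpr hp)

theorem coMax_of_height (hd : Dim2 B) {p : PrimeSpectrum B} (hp : 1 ≤ p.asIdeal.height) :
    CoMax p.asIdeal := fun r hr hle hne => by
  by_contra hm
  exact hne (congrArg PrimeSpectrum.asIdeal (eq_of_le_of_height hd hp (r := ⟨r, hr⟩) hm hle)).symm

theorem T_antichain (hd : Dim2 B) {z : B} (hz : z ∈ nonZeroDivisors B) {p q : PrimeSpectrum B}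
    (hp : p ∈ T z) (hq : q ∈ T z) (h : q ≤ p) : q = p :=
  eq_of_le_of_height hd (one_le_height hz hq.2) hp.1 h

theorem finite_T [IsNoetherianRing B] (hd : Dim2 B) {z : B} (hz : z ∈ nonZeroDivisors B) :
    (T z).Finite := by
  refine Set.Finite.subset (((Ideal.span {z}).finite_minimalPrimes_of_isNoetherianRing).preimage
    (f := PrimeSpectrum.asIdeal) (fun a _ b _ h => PrimeSpectrum.ext h)) ?_
  intro p hp
  refine ⟨⟨p.2, (Ideal.span_singleton_le_iff_mem _).mpr hp.2⟩, ?_⟩
  rintro J ⟨hJ, hzJ⟩ hle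
  have hzJ' : z ∈ J := hzJ (Ideal.mem_span_singleton_self z)
  exact (congrArg PrimeSpectrum.asIdeal
    (eq_of_le_of_height hd (p := ⟨J, hJ⟩) (one_le_height hz hzJ') hp.1 hle)).ge

theorem krullDimLE_atPrime (hd : Dim2 B) {p : PrimeSpectrum B} (hp : ¬ p.asIdeal.IsMaximal) :
    Ring.KrullDimLE 1 (Localization.AtPrime p.asIdeal) := by
  rw [Ring.krullDimLE_iff, IsLocalization.AtPrime.ringKrullDim_eq_height p.asIdeal]
  exact_mod_cast hd p hp

theorem mem_nzd_atPrime {x : B} (hx : x ∈ nonZeroDivisors B) (p : PrimeSpectrum B) :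
    algebraMap B (Localization.AtPrime p.asIdeal) x ∈ nonZeroDivisors (Localization.AtPrime p.asIdeal) :=
  IsLocalization.map_nonZeroDivisors_le p.asIdeal.primeCompl _ (Submonoid.mem_map_of_mem _ hx)

variable (A) in
/-- The order of a function on a curve, with lengths over the base. -/
noncomputable def ordP (p : PrimeSpectrum B) (f : p.asIdeal.ResidueField) : ℤ :=
  ordA A (IsFractionRing.div_surjective (A := B ⧸ p.asIdeal) f).choose -
    ordA A (IsFractionRing.div_surjective (A := B ⧸ p.asIdeal) f).choose_spec.choose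

theorem residueMap_ne_zero {p : PrimeSpectrum B} {b : B} (hb : b ∉ p.asIdeal) :
    algebraMap B p.asIdeal.ResidueField b ≠ 0 := fun h =>
  hb (Ideal.algebraMap_residueField_eq_zero.mp h)

theorem ordP_mk {p : PrimeSpectrum B} (hp : CoMax p.asIdeal) {a b : B} (ha : a ∉ p.asIdeal)
    (hb : b ∉ p.asIdeal) :
    ordP A p (algebraMap B p.asIdeal.ResidueField a / algebraMap B p.asIdeal.ResidueField b) =
      ordA A (Ideal.Quotient.mk p.asIdeal a) - ordA A (Ideal.Quotient.mk p.asIdeal b) := by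
  have h₁ := IsFractionRing.div_surjective (A := B ⧸ p.asIdeal)
    (algebraMap B p.asIdeal.ResidueField a / algebraMap B p.asIdeal.ResidueField b)
  obtain ⟨a', ha'⟩ := Ideal.Quotient.mk_surjective h₁.choose
  obtain ⟨b', hb'⟩ := Ideal.Quotient.mk_surjective h₁.choose_spec.choose
  obtain ⟨hnz, he⟩ := h₁.choose_spec.choose_spec
  unfold ordP
  rw [← hb', ← ha'] at he ⊢
  rw [← hb'] at hnz
  have hb0 : b' ∉ p.asIdeal := fun h =>
    nonZeroDivisors.ne_zero hnz (Ideal.Quotient.eq_zero_iff_mem.mpr h)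
  simp only [← Ideal.Quotient.algebraMap_eq, ← IsScalarTower.algebraMap_apply B (B ⧸ p.asIdeal)
    p.asIdeal.ResidueField] at he
  rw [div_eq_div_iff (residueMap_ne_zero hb0) (residueMap_ne_zero hb), ← map_mul, ← map_mul] at he
  have ha0 : a' ∉ p.asIdeal := fun h => by
    have h0 : algebraMap B p.asIdeal.ResidueField (a' * b) = 0 :=
      Ideal.algebraMap_residueField_eq_zero.mpr (Ideal.mul_mem_right _ _ h)
    rw [h0] at he
    exact (p.2.mem_or_mem (Ideal.algebraMap_residueField_eq_zero.mp he.symm)).elim ha hb0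
  have hq : Ideal.Quotient.mk p.asIdeal (a' * b) = Ideal.Quotient.mk p.asIdeal (a * b') :=
    IsFractionRing.injective (B ⧸ p.asIdeal) p.asIdeal.ResidueField (by
      rw [← Ideal.Quotient.algebraMap_eq, ← IsScalarTower.algebraMap_apply,
        ← IsScalarTower.algebraMap_apply, he])
  have e1 := ordA_mul (A := A) hp ha0 hb
  have e2 := ordA_mul (A := A) hp ha hb0
  rw [hq, e2] at e1
  linarith

theorem exists_div {p : PrimeSpectrum B} {f : p.asIdeal.ResidueField} (hf : f ≠ 0) :
    ∃ a b, a ∉ p.asIdeal ∧ b ∉ p.asIdeal ∧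
      f = algebraMap B p.asIdeal.ResidueField a / algebraMap B p.asIdeal.ResidueField b := by
  obtain ⟨a, b, hb, rfl⟩ := IsFractionRing.div_surjective (A := B ⧸ p.asIdeal) f
  obtain ⟨a, rfl⟩ := Ideal.Quotient.mk_surjective a
  obtain ⟨b, rfl⟩ := Ideal.Quotient.mk_surjective b
  refine ⟨a, b, fun h => hf ?_, fun h => nonZeroDivisors.ne_zero hb (Ideal.Quotient.eq_zero_iff_mem.mpr h), ?_⟩
  · rw [Ideal.Quotient.eq_zero_iff_mem.mpr h, map_zero, zero_div]
  · rw [← Ideal.Quotient.algebraMap_eq, ← IsScalarTower.algebraMap_apply, ← IsScalarTower.algebraMap_apply]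

theorem ordP_algebraMap {p : PrimeSpectrum B} (hp : CoMax p.asIdeal) {a : B} (ha : a ∉ p.asIdeal) :
    ordP A p (algebraMap B p.asIdeal.ResidueField a) = ordA A (Ideal.Quotient.mk p.asIdeal a) := by
  have h := ordP_mk (A := A) hp ha (b := 1) fun h => p.2.ne_top ((Ideal.eq_top_iff_one _).mpr h)
  rwa [map_one, map_one, div_one, ordA_one, sub_zero] at h

theorem ordP_one {p : PrimeSpectrum B} (hp : CoMax p.asIdeal) :
    ordP A p (1 : p.asIdeal.ResidueField) = 0 := by
  have h := ordP_algebraMap (A := A) hp (a := 1) fun h => p.2.ne_top ((Ideal.eq_top_iff_one _).mpr h)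
  rwa [map_one, map_one, ordA_one] at h

theorem ordP_mul {p : PrimeSpectrum B} (hp : CoMax p.asIdeal) {f g : p.asIdeal.ResidueField}
    (hf : f ≠ 0) (hg : g ≠ 0) : ordP A p (f * g) = ordP A p f + ordP A p g := by
  obtain ⟨a, b, ha, hb, rfl⟩ := exists_div hf
  obtain ⟨c, d, hc, hd, rfl⟩ := exists_div hg
  rw [div_mul_div_comm, ← map_mul, ← map_mul,
    ordP_mk hp (fun h => (p.2.mem_or_mem h).elim ha hc) (fun h => (p.2.mem_or_mem h).elim hb hd),
    ordP_mk hp ha hb, ordP_mk hp hc hd, ordA_mul hp ha hc, ordA_mul hp hb hd]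
  ring

theorem ordP_pow {p : PrimeSpectrum B} (hp : CoMax p.asIdeal) {f : p.asIdeal.ResidueField}
    (hf : f ≠ 0) (n : ℕ) : ordP A p (f ^ n) = n * ordP A p f := by
  induction n with
  | zero => simp [ordP_one hp]
  | succ n ih => rw [pow_succ, ordP_mul hp (pow_ne_zero _ hf) hf, ih]; push_cast; ring

theorem ordP_inv {p : PrimeSpectrum B} (hp : CoMax p.asIdeal) {f : p.asIdeal.ResidueField}
    (hf : f ≠ 0) : ordP A p f⁻¹ = - ordP A p f := by
  have h := ordP_mul (A := A) hp (inv_ne_zero hf) hf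
  rw [inv_mul_cancel₀ hf, ordP_one hp] at h
  linarith

theorem ordP_neg_one {p : PrimeSpectrum B} (hp : CoMax p.asIdeal) :
    ordP A p (-1 : p.asIdeal.ResidueField) = 0 := by
  have h := ordP_mul (A := A) hp (f := (-1 : p.asIdeal.ResidueField)) (g := -1)
    (neg_ne_zero.mpr one_ne_zero) (neg_ne_zero.mpr one_ne_zero)
  rw [neg_mul_neg, one_mul, ordP_one hp] at h
  linarith

variable (A) in
/-- The contribution of one curve. -/
noncomputable def term (p : PrimeSpectrum B) (x y : B) : ℤ :=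
  ordP A p (CycAlg.tameSymbol (Localization.AtPrime p.asIdeal)
    (algebraMap B (Localization.AtPrime p.asIdeal) x) (algebraMap B (Localization.AtPrime p.asIdeal) y))

variable (A) in
/-- The pairing. -/
noncomputable def L (x y : B) : ℤ := ∑ᶠ p ∈ T x ∪ T y, term A p x y

variable [IsNoetherianRing B]

theorem isNoetherian_atPrime (p : PrimeSpectrum B) : IsNoetherianRing (Localization.AtPrime p.asIdeal) :=
  IsLocalization.isNoetherianRing p.asIdeal.primeCompl _ inferInstance

theorem term_eq_zero (hd : Dim2 B) {z : B} (hz : z ∈ nonZeroDivisors B) {p : PrimeSpectrum B} (hp : p ∈ T z)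
    {x y : B} (hx : p ∉ T x) (hy : p ∉ T y) : term A p x y = 0 := by
  haveI := isNoetherian_atPrime p
  rw [term, tameSymbol_of_isUnit (krullDimLE_atPrime hd hp.1)
    ((IsLocalization.AtPrime.isUnit_to_map_iff (Localization.AtPrime p.asIdeal) p.asIdeal _).mpr
      fun h => hx ⟨hp.1, h⟩)
    ((IsLocalization.AtPrime.isUnit_to_map_iff (Localization.AtPrime p.asIdeal) p.asIdeal _).mpr
      fun h => hy ⟨hp.1, h⟩)]
  exact ordP_one (coMax_of_height hd (one_le_height hz hp.2))

/-- The pairing as a sum over any larger set of curves. -/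
theorem L_eq_sum (hd : Dim2 B) {z : B} (hz : z ∈ nonZeroDivisors B) {x y : B} (hx : T x ⊆ T z)
    (hy : T y ⊆ T z) : L A x y = ∑ p ∈ (finite_T hd hz).toFinset, term A p x y := by
  unfold L
  rw [finsum_mem_eq_finite_toFinset_sum _ ((finite_T hd hz).subset (Set.union_subset hx hy))]
  refine Finset.sum_subset (fun p hp => ?_) fun p hp hnp => ?_
  · rw [Set.Finite.mem_toFinset] at hp ⊢
    exact Set.union_subset hx hy hp
  · rw [Set.Finite.mem_toFinset] at hp hnp
    exact term_eq_zero hd hz hp (fun h => hnp (Or.inl h)) fun h => hnp (Or.inr h)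

theorem L_mul_left (hd : Dim2 B) {x x' y : B} (hx : x ∈ nonZeroDivisors B) (hx' : x' ∈ nonZeroDivisors B)
    (hy : y ∈ nonZeroDivisors B) : L A (x * x') y = L A x y + L A x' y := by
  have hz : x * x' * y ∈ nonZeroDivisors B := mul_mem (mul_mem hx hx') hy
  have e : T (x * x' * y) = T x ∪ T x' ∪ T y := by rw [T_mul, T_mul]
  have s₁ : T x ⊆ T (x * x' * y) := e ▸ fun p h => Or.inl (Or.inl h)
  have s₂ : T x' ⊆ T (x * x' * y) := e ▸ fun p h => Or.inl (Or.inr h)
  have s₃ : T y ⊆ T (x * x' * y) := e ▸ fun p h => Or.inr h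
  rw [L_eq_sum hd hz (T_mul x x' ▸ Set.union_subset s₁ s₂) s₃, L_eq_sum hd hz s₁ s₃, L_eq_sum hd hz s₂ s₃,
    ← Finset.sum_add_distrib]
  refine Finset.sum_congr rfl fun p hp => ?_
  rw [Set.Finite.mem_toFinset] at hp
  haveI := isNoetherian_atPrime p
  have hdp := krullDimLE_atPrime hd hp.1
  rw [term, map_mul, (tameSymbol_mul hdp (mem_nzd_atPrime hx p) (mem_nzd_atPrime hx' p)
    (mem_nzd_atPrime hy p)).1]
  exact ordP_mul (coMax_of_height hd (one_le_height hz hp.2))
    (tameSymbol_ne_zero hdp (mem_nzd_atPrime hx p) (mem_nzd_atPrime hy p))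
    (tameSymbol_ne_zero hdp (mem_nzd_atPrime hx' p) (mem_nzd_atPrime hy p))

theorem L_mul_right (hd : Dim2 B) {x x' y : B} (hx : x ∈ nonZeroDivisors B) (hx' : x' ∈ nonZeroDivisors B)
    (hy : y ∈ nonZeroDivisors B) : L A y (x * x') = L A y x + L A y x' := by
  have hz : x * x' * y ∈ nonZeroDivisors B := mul_mem (mul_mem hx hx') hy
  have e : T (x * x' * y) = T x ∪ T x' ∪ T y := by rw [T_mul, T_mul]
  have s₁ : T x ⊆ T (x * x' * y) := e ▸ fun p h => Or.inl (Or.inl h)
  have s₂ : T x' ⊆ T (x * x' * y) := e ▸ fun p h => Or.inl (Or.inr h)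
  have s₃ : T y ⊆ T (x * x' * y) := e ▸ fun p h => Or.inr h
  rw [L_eq_sum hd hz s₃ (T_mul x x' ▸ Set.union_subset s₁ s₂), L_eq_sum hd hz s₃ s₁, L_eq_sum hd hz s₃ s₂,
    ← Finset.sum_add_distrib]
  refine Finset.sum_congr rfl fun p hp => ?_
  rw [Set.Finite.mem_toFinset] at hp
  haveI := isNoetherian_atPrime p
  have hdp := krullDimLE_atPrime hd hp.1
  rw [term, map_mul, (tameSymbol_mul hdp (mem_nzd_atPrime hx p) (mem_nzd_atPrime hx' p)
    (mem_nzd_atPrime hy p)).2]
  exact ordP_mul (coMax_of_height hd (one_le_height hz hp.2))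
    (tameSymbol_ne_zero hdp (mem_nzd_atPrime hy p) (mem_nzd_atPrime hx p))
    (tameSymbol_ne_zero hdp (mem_nzd_atPrime hy p) (mem_nzd_atPrime hx' p))

theorem L_self (hd : Dim2 B) {x : B} (hx : x ∈ nonZeroDivisors B) : L A x x = 0 := by
  rw [L_eq_sum hd hx subset_rfl subset_rfl]
  refine Finset.sum_eq_zero fun p hp => ?_
  rw [Set.Finite.mem_toFinset] at hp
  haveI := isNoetherian_atPrime p
  have hc := coMax_of_height hd (one_le_height hx hp.2)
  rw [term, tameSymbol_self (krullDimLE_atPrime hd hp.1) (mem_nzd_atPrime hx p)]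
  exact (ordP_pow hc (f := (-1 : p.asIdeal.ResidueField)) (neg_ne_zero.mpr one_ne_zero) _).trans
    (by rw [ordP_neg_one hc, mul_zero])

theorem L_skew (hd : Dim2 B) {x y : B} (hx : x ∈ nonZeroDivisors B) (hy : y ∈ nonZeroDivisors B) :
    L A y x = - L A x y := by
  have h := L_self (A := A) hd (mul_mem hx hy)
  rw [L_mul_left hd hx hy (mul_mem hx hy), L_mul_right hd hx hy hx, L_mul_right hd hx hy hy,
    L_self hd hx, L_self hd hy] at h
  linarith

theorem ord_toNat_eq (p : PrimeSpectrum B) (x : B) :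
    ((Ring.ord (Localization.AtPrime p.asIdeal) (algebraMap B (Localization.AtPrime p.asIdeal) x)).toNat : ℤ) =
      lenZ (Localization p.asIdeal.primeCompl)
        (LocalizedModule p.asIdeal.primeCompl (B ⧸ Ideal.span {x})) := by
  rw [CycGlue.Tame.ord_localization_eq]
  rfl

theorem term_disjoint (hd : Dim2 B) {x y : B} (hx : x ∈ nonZeroDivisors B) {p : PrimeSpectrum B}
    (hp : p ∈ T x) (hy : p ∉ T y) :
    term A p x y = -(ordA A (Ideal.Quotient.mk p.asIdeal y) *
      lenZ (Localization p.asIdeal.primeCompl) (LocalizedModule p.asIdeal.primeCompl (B ⧸ Ideal.span {x}))) ∧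
    term A p y x = ordA A (Ideal.Quotient.mk p.asIdeal y) *
      lenZ (Localization p.asIdeal.primeCompl) (LocalizedModule p.asIdeal.primeCompl (B ⧸ Ideal.span {x})) := by
  haveI := isNoetherian_atPrime p
  have hdp := krullDimLE_atPrime hd hp.1
  have hc := coMax_of_height hd (one_le_height hx hp.2)
  have hyp : y ∉ p.asIdeal := fun h => hy ⟨hp.1, h⟩
  have hu := (IsLocalization.AtPrime.isUnit_to_map_iff (Localization.AtPrime p.asIdeal) p.asIdeal y).mpr hyp
  have he : ordP A p (residue (Localization.AtPrime p.asIdeal) (hu.unit : Localization.AtPrime p.asIdeal)) =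
      ordA A (Ideal.Quotient.mk p.asIdeal y) := by
    rw [← ordP_algebraMap hc hyp]; rfl
  have hne := CycGlue.Tame.residue_unit_ne_zero hu.unit
  constructor
  · rw [term, tameSymbol_of_pow hdp (mem_nzd_atPrime hx p) (u := 1) (w := hu.unit) (e := 1) (f := 0)
      (by simp) (by simp)]
    rw [ordP_pow hc (CycGlue.Tame.expr_ne_zero _ _ _ _), ord_toNat_eq]
    have : CycGlue.Tame.expr (1 : (Localization.AtPrime p.asIdeal)ˣ) hu.unit 1 0 =
        (residue (Localization.AtPrime p.asIdeal) (hu.unit : Localization.AtPrime p.asIdeal))⁻¹ := by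
      simp [CycGlue.Tame.expr]
    rw [this]
    have h' := ordP_inv (A := A) hc hne
    rw [h', he]
    ring
  · rw [term, tameSymbol_of_pow hdp (mem_nzd_atPrime hx p) (u := hu.unit) (w := 1) (e := 0) (f := 1)
      (by simp) (by simp)]
    rw [ordP_pow hc (CycGlue.Tame.expr_ne_zero _ _ _ _), ord_toNat_eq]
    have : CycGlue.Tame.expr hu.unit (1 : (Localization.AtPrime p.asIdeal)ˣ) 0 1 =
        residue (Localization.AtPrime p.asIdeal) (hu.unit : Localization.AtPrime p.asIdeal) := by
      simp [CycGlue.Tame.expr]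
    rw [this, he]
    ring

/-- Elements without a common curve pair to zero. -/
theorem L_disjoint (hd : Dim2 B) {x y : B} (hx : x ∈ nonZeroDivisors B) (hy : y ∈ nonZeroDivisors B)
    (h : ∀ p ∈ T x, p ∉ T y) : L A x y = 0 := by
  classical
  have fx := finite_T hd hx
  have fy := finite_T hd hy
  have hdisj : Disjoint fx.toFinset fy.toFinset := Finset.disjoint_left.mpr fun p hp hq =>
    h p (fx.mem_toFinset.mp hp) (fy.mem_toFinset.mp hq)
  have hsum : L A x y = ∑ p ∈ fx.toFinset, term A p x y + ∑ p ∈ fy.toFinset, term A p x y := by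
    rw [← Finset.sum_union hdisj, L, finsum_mem_eq_finite_toFinset_sum _ (fx.union fy),
      Set.Finite.toFinset_union]
  have key : ∀ {x y : B}, x ∈ nonZeroDivisors B → (∀ p ∈ T x, p ∉ T y) →
      index (mulA A (B ⧸ Ideal.span {x}) y) = ∑ᶠ p ∈ T x, ordA A (Ideal.Quotient.mk p.asIdeal y) *
        lenZ (Localization p.asIdeal.primeCompl)
          (LocalizedModule p.asIdeal.primeCompl (B ⧸ Ideal.span {x})) := by
    intro x y hx h
    have fx := finite_T hd hx
    rw [finsum_mem_eq_finite_toFinset_sum _ fx]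
    refine (index_mulA_eq_sum (M := B ⧸ Ideal.span {x}) y fx.toFinset
      (fun p hp => (fx.mem_toFinset.mp hp).1)
      (fun p hp q hq => T_antichain hd hx (fx.mem_toFinset.mp hp) (fx.mem_toFinset.mp hq))
      (fun p hp hyp => h p (fx.mem_toFinset.mp hp) ⟨(fx.mem_toFinset.mp hp).1, hyp⟩)
      (fun p hp => coMax_of_height hd (one_le_height hx (fx.mem_toFinset.mp hp).2))
      (fun p hp hpm => fx.mem_toFinset.mpr ⟨hpm, ?_⟩)).2
    rw [Module.support_eq_zeroLocus, Ideal.annihilator_quotient, PrimeSpectrum.mem_zeroLocus,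
      SetLike.coe_subset_coe, Ideal.span_singleton_le_iff_mem] at hp
    exact hp
  have k₁ := key hx h
  have k₂ := key hy fun p hp hq => h p hq hp
  rw [finsum_mem_eq_finite_toFinset_sum _ fx] at k₁
  rw [finsum_mem_eq_finite_toFinset_sum _ fy] at k₂
  rw [hsum, Finset.sum_congr rfl fun p hp => (term_disjoint (A := A) hd hx (fx.mem_toFinset.mp hp)
      (h p (fx.mem_toFinset.mp hp))).1,
    Finset.sum_congr rfl fun p hp => (term_disjoint (A := A) hd hy (fy.mem_toFinset.mp hp)
      (fun hq => h p hq (fy.mem_toFinset.mp hp))).2,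
    Finset.sum_neg_distrib, ← k₁, ← k₂, index_mulA_symm hx hy]
  ring

end Groth.Agent.CycKey
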