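import Groth.Agent.CycKey.Core
import Groth.Agent.CycKey.NormOrd
import Groth.Agent.CycGlue.GlueCurve

/-!
# Reduction of the key lemma to an extension with parameters
-/

set_option autoImplicit false
set_option linter.style.haveILetI false
set_option linter.unusedSectionVars false

namespace Groth.Agent.CycKey

open IsLocalRing Groth.Agent.LenLib
open Groth.Agent.CycGlue.Tame (tameSymbol_of_pow nrm expr expr_ne_zero value_eq_value nonempty_tameData
  finite_maximalSpectrum isLocalHom_localization finite_residueField tameSymbol_of_isUnit ord_map)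

universe u

variable {A : Type u} [CommRing A] [IsNoetherianRing A] [IsLocalRing A] {C : Type u} [CommRing C]
  [Algebra A C] [Module.Finite A C] [IsNoetherianRing C] {T : Type u} [CommRing T] [Algebra C T]
  [Algebra A T] [IsScalarTower A C T]

section fibre

variable (q : PrimeSpectrum A) [Algebra (Localization.AtPrime q.asIdeal) T]
  [IsScalarTower A (Localization.AtPrime q.asIdeal) T] [Module.Finite (Localization.AtPrime q.asIdeal) T]
  [IsLocalization (Algebra.algebraMapSubmonoid C q.asIdeal.primeCompl) T]

/-- The point downstairs. -/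
noncomputable def pt (n : MaximalSpectrum T) : PrimeSpectrum C :=
  ⟨n.asIdeal.comap (algebraMap C T), Ideal.IsPrime.comap _⟩

theorem pt_comap (n : MaximalSpectrum T) :
    (pt (C := C) n).asIdeal.comap (algebraMap A C) = q.asIdeal := by
  haveI := n.isMaximal
  haveI : Algebra.IsIntegral (Localization.AtPrime q.asIdeal) T := Algebra.IsIntegral.of_finite _ _
  have hm := IsLocalRing.eq_maximalIdeal
    (Ideal.isMaximal_comap_of_isIntegral_of_isMaximal (R := Localization.AtPrime q.asIdeal) n.asIdeal)
  rw [pt, Ideal.comap_comap, ← IsScalarTower.algebraMap_eq A C T,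
    IsScalarTower.algebraMap_eq A (Localization.AtPrime q.asIdeal) T, ← Ideal.comap_comap, hm]
  exact IsLocalization.AtPrime.comap_maximalIdeal _ q.asIdeal

theorem exists_pt (p : PrimeSpectrum C) (h : p.asIdeal.comap (algebraMap A C) = q.asIdeal) :
    ∃ n : MaximalSpectrum T, pt (C := C) n = p := by
  haveI : Algebra.IsIntegral (Localization.AtPrime q.asIdeal) T := Algebra.IsIntegral.of_finite _ _
  let M := Algebra.algebraMapSubmonoid C q.asIdeal.primeCompl
  have hdisj : Disjoint (M : Set C) (p.asIdeal : Set C) := Set.disjoint_left.mpr fun x hx hxp => by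
    obtain ⟨σ, hσ, rfl⟩ := hx
    exact hσ (h ▸ hxp : σ ∈ q.asIdeal)
  haveI hprime := IsLocalization.isPrime_of_isPrime_disjoint M T p.asIdeal inferInstance hdisj
  have hc := IsLocalization.comap_map_of_isPrime_disjoint M T (I := p.asIdeal) inferInstance hdisj
  have hle : maximalIdeal (Localization.AtPrime q.asIdeal) ≤
      (p.asIdeal.map (algebraMap C T)).comap (algebraMap (Localization.AtPrime q.asIdeal) T) := by
    rw [← Localization.AtPrime.map_eq_maximalIdeal, Ideal.map_le_iff_le_comap]
    intro x hx
    show algebraMap _ T (algebraMap A _ x) ∈ p.asIdeal.map (algebraMap C T)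
    rw [← IsScalarTower.algebraMap_apply, IsScalarTower.algebraMap_apply A C T]
    exact Ideal.mem_map_of_mem _ (h.symm ▸ hx : x ∈ p.asIdeal.comap (algebraMap A C))
  have hmax : (p.asIdeal.map (algebraMap C T)).IsMaximal := by
    refine Ideal.isMaximal_of_isIntegral_of_isMaximal_comap (R := Localization.AtPrime q.asIdeal) _ ?_
    rw [← (IsLocalRing.maximalIdeal.isMaximal _).eq_of_le (Ideal.IsPrime.comap _).ne_top hle]
    infer_instance
  exact ⟨⟨_, hmax⟩, PrimeSpectrum.ext hc⟩

include q in
theorem pt_injective : Function.Injective (pt (C := C) (T := T)) := fun n n' h => by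
  let M := Algebra.algebraMapSubmonoid C q.asIdeal.primeCompl
  refine MaximalSpectrum.ext ?_
  rw [← IsLocalization.map_comap M T n.asIdeal, ← IsLocalization.map_comap M T n'.asIdeal]
  exact congrArg (Ideal.map (algebraMap C T)) (congrArg PrimeSpectrum.asIdeal h)

/-- The contribution of a curve is the sum over the curves above it. -/
theorem ordFrac_eq_sum (hqm : ¬ q.asIdeal.IsMaximal) (hd : Dim2 A) (hq1 : 1 ≤ q.asIdeal.height)
    {a b : A} (ha : a ∈ nonZeroDivisors A) (hb : b ∈ nonZeroDivisors A)
    (hab : a * b ∈ q.asIdeal)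
    (hfin : CycAlg.IsFinExt (Localization.AtPrime q.asIdeal) T (maximalIdeal (Localization.AtPrime q.asIdeal)))
    (π : ∀ n : MaximalSpectrum T, Localization.AtPrime n.asIdeal)
    (hπ : ∀ n, π n ∈ nonZeroDivisors (Localization.AtPrime n.asIdeal))
    (e f : MaximalSpectrum T → ℕ) (u w : ∀ n : MaximalSpectrum T, (Localization.AtPrime n.asIdeal)ˣ)
    (hfa : ∀ n, algebraMap A (Localization.AtPrime n.asIdeal) a = (u n : Localization.AtPrime n.asIdeal) * π n ^ e n)
    (hfb : ∀ n, algebraMap A (Localization.AtPrime n.asIdeal) b = (w n : Localization.AtPrime n.asIdeal) * π n ^ f n) :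
    CycAlg.ordFrac (A ⧸ q.asIdeal) q.asIdeal.ResidueField
      (CycAlg.tameSymbol (Localization.AtPrime q.asIdeal) (algebraMap A (Localization.AtPrime q.asIdeal) a)
        (algebraMap A (Localization.AtPrime q.asIdeal) b)) =
      ∑ᶠ p ∈ {p : PrimeSpectrum C | p.asIdeal.comap (algebraMap A C) = q.asIdeal},
        term A p (algebraMap A C a) (algebraMap A C b) ∧
    (∀ p : PrimeSpectrum C, p.asIdeal.comap (algebraMap A C) = q.asIdeal →
      ∃ ϖ : Localization.AtPrime p.asIdeal, ϖ ∈ nonZeroDivisors (Localization.AtPrime p.asIdeal) ∧ ¬ IsUnit ϖ ∧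
        ∃ i j : ℕ, Associated (loc p (algebraMap A C a)) (ϖ ^ i) ∧ Associated (loc p (algebraMap A C b)) (ϖ ^ j)) := by
  classical
  haveI := isNoetherian_atPrime (B := A) q
  have hR := krullDimLE_atPrime hd hqm
  have haq := mem_nzd_atPrime ha q
  have hbq := mem_nzd_atPrime hb q
  have hdC : Dim2 C := dim2_of_finite hd
  have := finite_maximalSpectrum (Localization.AtPrime q.asIdeal) T
  have := Fintype.ofFinite (MaximalSpectrum T)
  haveI := fun n : MaximalSpectrum T => isLocalHom_localization (A := Localization.AtPrime q.asIdeal) n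
  have hA : ∀ (n : MaximalSpectrum T) (x : A),
      algebraMap (Localization.AtPrime q.asIdeal) (Localization.AtPrime n.asIdeal)
        (algebraMap A (Localization.AtPrime q.asIdeal) x) = algebraMap A (Localization.AtPrime n.asIdeal) x :=
    fun n x => by
      rw [IsScalarTower.algebraMap_apply (Localization.AtPrime q.asIdeal) T (Localization.AtPrime n.asIdeal),
        ← IsScalarTower.algebraMap_apply A (Localization.AtPrime q.asIdeal) T,
        ← IsScalarTower.algebraMap_apply A T (Localization.AtPrime n.asIdeal)]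
  let D : CycAlg.TameData (Localization.AtPrime q.asIdeal) (algebraMap A (Localization.AtPrime q.asIdeal) a)
      (algebraMap A (Localization.AtPrime q.asIdeal) b) :=
    { B := T
      isFinExt := hfin
      isLocalHom := fun n => isLocalHom_localization n
      π := π
      π_mem := hπ
      u₁ := u
      u₂ := w
      e₁ := e
      e₂ := f
      fac₁ := fun n => (hA n a).trans (hfa n)
      fac₂ := fun n => (hA n b).trans (hfb n) }
  have hsym : CycAlg.tameSymbol (Localization.AtPrime q.asIdeal) (algebraMap A (Localization.AtPrime q.asIdeal) a)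
      (algebraMap A (Localization.AtPrime q.asIdeal) b) = ∏ n : MaximalSpectrum T,
      nrm (Localization.AtPrime q.asIdeal) n (expr (u n) (w n) (e n) (f n)) ^
        (Ring.ord (Localization.AtPrime n.asIdeal) (π n)).toNat := by
    rw [CycAlg.tameSymbol, dif_pos ⟨D⟩, value_eq_value hR haq hbq _ D, ← finprod_eq_prod_of_fintype]
    rfl
  haveI : ∀ n : MaximalSpectrum T, IsLocalization.AtPrime (Localization.AtPrime n.asIdeal) (pt (C := C) n).asIdeal :=
    fun n => IsLocalization.isLocalization_isLocalization_atPrime_isLocalization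
      (Algebra.algebraMapSubmonoid C q.asIdeal.primeCompl) (Localization.AtPrime n.asIdeal) n.asIdeal
  let ε : ∀ n : MaximalSpectrum T, Localization.AtPrime (pt (C := C) n).asIdeal ≃ₐ[C] Localization.AtPrime n.asIdeal :=
    fun n => IsLocalization.algEquiv (pt (C := C) n).asIdeal.primeCompl _ _
  have hmem : ∀ p : PrimeSpectrum C, p.asIdeal.comap (algebraMap A C) = q.asIdeal →
      ¬ p.asIdeal.IsMaximal := fun p hp hm => by
    haveI := hm
    haveI : Algebra.IsIntegral A C := Algebra.IsIntegral.of_finite A C
    exact hqm (hp ▸ Ideal.isMaximal_comap_of_isIntegral_of_isMaximal p.asIdeal)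
  -- parameters
  let ϖ : ∀ n, Localization.AtPrime (pt (C := C) n).asIdeal := fun n => (ε n).symm (π n)
  have hfac : ∀ (n : MaximalSpectrum T) (x : A) (v : (Localization.AtPrime n.asIdeal)ˣ) (i : ℕ),
      algebraMap A (Localization.AtPrime n.asIdeal) x = (v : Localization.AtPrime n.asIdeal) * π n ^ i →
      loc (pt (C := C) n) (algebraMap A C x) =
        (Units.map (ε n).symm.toAlgHom.toRingHom.toMonoidHom v : (Localization.AtPrime (pt (C := C) n).asIdeal)ˣ) *
          ϖ n ^ i := fun n x v i h => by
    show _ = (ε n).symm (v : Localization.AtPrime n.asIdeal) * (ε n).symm (π n) ^ i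
    rw [← map_pow, ← map_mul, ← h, IsScalarTower.algebraMap_apply A C (Localization.AtPrime n.asIdeal),
      AlgEquiv.commutes]
  have hϖ : ∀ n, ϖ n ∈ nonZeroDivisors (Localization.AtPrime (pt (C := C) n).asIdeal) := fun n => by
    refine mem_nonZeroDivisors_of_injective (f := (ε n).toRingEquiv.toRingHom) (ε n).injective ?_
    show ε n ((ε n).symm (π n)) ∈ _
    rw [AlgEquiv.apply_symm_apply]; exact hπ n
  have hϖu : ∀ n, ¬ IsUnit (ϖ n) := fun n h => by
    have h1 : IsUnit (loc (pt (C := C) n) (algebraMap A C (a * b))) := by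
      rw [map_mul, map_mul, hfac n a _ _ (hfa n), hfac n b _ _ (hfb n)]
      exact (Units.isUnit _).mul (h.pow _) |>.mul ((Units.isUnit _).mul (h.pow _))
    exact isUnit_loc.mp h1 (show a * b ∈ (pt (C := C) n).asIdeal.comap (algebraMap A C) by
      rw [pt_comap q n]; exact hab)
  refine ⟨?_, fun p hp => ?_⟩
  swap
  · obtain ⟨n, rfl⟩ := exists_pt (T := T) q p hp
    exact ⟨ϖ n, hϖ n, hϖu n, e n, f n,
      Associated.symm ⟨_, (mul_comm _ _).trans (hfac n a _ _ (hfa n)).symm⟩,
      Associated.symm ⟨_, (mul_comm _ _).trans (hfac n b _ _ (hfb n)).symm⟩⟩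
  have himg : {p : PrimeSpectrum C | p.asIdeal.comap (algebraMap A C) = q.asIdeal} =
      Set.range (pt (C := C) (T := T)) := by
    ext p
    exact ⟨fun hp => exists_pt q p hp, by rintro ⟨n, rfl⟩; exact pt_comap q n⟩
  rw [himg, finsum_mem_range (pt_injective (C := C) q), finsum_eq_sum_of_fintype, hsym]
  haveI := krullDimLE_quotient (coMax_of_height hd hq1)
  have hne : ∀ n : MaximalSpectrum T,
      nrm (Localization.AtPrime q.asIdeal) n (expr (u n) (w n) (e n) (f n)) ≠ 0 := fun n h => by
    haveI := finite_residueField (A := Localization.AtPrime q.asIdeal) n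
    exact expr_ne_zero _ _ _ _ (Algebra.norm_eq_zero_iff.mp h)
  refine (ordFrac_prod (R := A ⧸ q.asIdeal) (K := q.asIdeal.ResidueField) Finset.univ _
    fun n _ => pow_ne_zero _ (hne n)).trans (Finset.sum_congr rfl fun n _ => ?_)
  haveI := isNoetherian_atPrime (pt (C := C) n)
  have hpn := hmem _ (pt_comap q n)
  have hzp : algebraMap A C (a * b) ∈ (pt (C := C) n).asIdeal :=
    show a * b ∈ (pt (C := C) n).asIdeal.comap (algebraMap A C) by rw [pt_comap q n]; exact hab
  have hp1 : 1 ≤ (pt (C := C) n).asIdeal.height := by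
    refine Order.one_le_iff_ne_zero.mpr fun h0 => hϖu n ?_
    by_contra hnu
    have hdim : Ring.KrullDimLE 0 (Localization.AtPrime (pt (C := C) n).asIdeal) := by
      rw [Ring.krullDimLE_iff, IsLocalization.AtPrime.ringKrullDim_eq_height (pt (C := C) n).asIdeal, h0]
      rfl
    have := hdim
    exact notMem_nonZeroDivisors_of_mem_mem_minimalPrimes ((IsLocalRing.mem_maximalIdeal _).mpr hnu)
      (Ideal.mem_minimalPrimes_of_krullDimLE_zero _) (hϖ n)
  have hc := coMax_of_height hdC hp1
  rw [term, tameSymbol_of_pow (krullDimLE_atPrime hdC hpn) (hϖ n)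
    (u := Units.map (ε n).symm.toAlgHom.toRingHom.toMonoidHom (u n))
    (w := Units.map (ε n).symm.toAlgHom.toRingHom.toMonoidHom (w n)) (e := e n) (f := f n)
    (hfac n a _ _ (hfa n)) (hfac n b _ _ (hfb n)), ordP_pow hc (expr_ne_zero _ _ _ _)]
  rw [show Ring.ord (Localization.AtPrime (pt (C := C) n).asIdeal) (ϖ n) =
      Ring.ord (Localization.AtPrime n.asIdeal) (π n) from ord_map (ε n).symm.toRingEquiv (π n),
    LenLib.ordFrac_pow (hne n),
    ord_nrm q n (pt (C := C) n) (ε n) (coMax_of_height hd hq1) hqm hc (pt_comap q n) (expr_ne_zero _ _ _ _)]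
  congr 2
  simp only [expr, map_mul, map_pow, map_inv₀, map_neg, map_one]
  rfl

end fibre

end Groth.Agent.CycKey
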